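import Mathlib
import Cfsg.Agent.Lib.Forms.DicksonBasic

/-!
# Solvable subgroups and pair stabilisers in a two-point action

In a finite group acting so that every non-trivial element fixes one point (order `p`) or two,
an element exchanging two points is an involution, and a solvable subgroup fixes a point, permutes
a pair of points, or normalises a four-group of involutions fixing pairs.
-/

set_option autoImplicit false
set_option linter.unusedSectionVars false

namespace Cfsg.Agent.Forms.SolubilizerPSL2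

open MulAction
open Cfsg.Agent.Forms.DicksonBasic

variable {p : ℕ} {G : Type*} {X : Type*} [Group G] [MulAction G X] [Finite G]
  [hp : Fact p.Prime] (hT : TwoPt p G X)

include hT

theorem mem_of_fix {g : G} (hg1 : g ≠ 1) {a b c : X} (hab : a ≠ b) (ha : g • a = a) (hb : g • b = b)
    (hc : g • c = c) : c = a ∨ c = b := by
  by_cases ho : orderOf g = p
  · exact Or.inl (hT.eq_of_fix ho ha hc)
  · obtain ⟨u, v, -, he⟩ := hT.exists_pair hg1 ho
    have ha' : a ∈ fixedBy X g := ha
    have hb' : b ∈ fixedBy X g := hb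
    have hc' : c ∈ fixedBy X g := hc
    rw [he, Set.mem_insert_iff, Set.mem_singleton_iff] at ha' hb' hc'
    rcases ha' with e | e <;> rcases hb' with e' | e' <;> rcases hc' with e'' | e'' <;> simp_all

theorem semisimple_of_fix_two {g : G} (hg1 : g ≠ 1) {a b : X} (hab : a ≠ b) (ha : g • a = a)
    (hb : g • b = b) : ¬ p ∣ orderOf g := fun h =>
  hab (hT.eq_of_fix (hT.orderOf_eq h) hb ha)

/-- An element exchanging two points is an involution. -/
theorem swap_sq {g : G} {a b : X} (hab : a ≠ b) (ha : g • a = b) (hb : g • b = a) : g * g = 1 := by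
  by_contra h
  have hg1 : g ≠ 1 := fun e => h (by rw [e, mul_one])
  obtain ⟨c, hc⟩ := hT.exists_fixed hg1
  rcases mem_of_fix hT h hab (c := c) (by rw [mul_smul, ha, hb]) (by rw [mul_smul, hb, ha])
    (by rw [mul_smul, hc, hc]) with rfl | rfl
  · exact hab (hc.symm.trans ha)
  · exact hab (hb.symm.trans hc)

/-- A swap inverts the pointwise stabiliser of the pair. -/
theorem swap_inverts {g w : G} {a b : X} (hab : a ≠ b) (ha : g • a = b) (hb : g • b = a)
    (hwa : w • a = a) (hwb : w • b = b) : g * w * g⁻¹ = w⁻¹ := by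
  have h1 := swap_sq hT hab ha hb
  have h2 : (g * w) * (g * w) = 1 :=
    swap_sq hT hab (by rw [mul_smul, hwa, ha]) (by rw [mul_smul, hwb, hb])
  rw [inv_eq_of_mul_eq_one_right h1]
  exact eq_inv_of_mul_eq_one_left (by rw [← h2]; group)

omit hT in
/-- The pointwise stabiliser of two points. -/
def ptw (a b : X) : Subgroup G := stabilizer G a ⊓ stabilizer G b

omit hT in
theorem mem_ptw {a b : X} {g : G} : g ∈ ptw (G := G) a b ↔ g • a = a ∧ g • b = b :=
  Subgroup.mem_inf.trans (and_congr mem_stabilizer_iff mem_stabilizer_iff)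

omit hT in
/-- The stabiliser of an unordered pair. -/
def pairStab (a b : X) : Subgroup G where
  carrier := {g | (g • a = a ∧ g • b = b) ∨ (g • a = b ∧ g • b = a)}
  one_mem' := Or.inl ⟨one_smul G a, one_smul G b⟩
  mul_mem' {g h} hg hh := by
    rcases hg with ⟨g1, g2⟩ | ⟨g1, g2⟩ <;> rcases hh with ⟨h1, h2⟩ | ⟨h1, h2⟩ <;>
      simp only [Set.mem_setOf_eq, mul_smul, h1, h2, g1, g2] <;> tauto
  inv_mem' {g} hg := by
    rcases hg with ⟨g1, g2⟩ | ⟨g1, g2⟩
    · exact Or.inl ⟨inv_smul_eq_iff.2 g1.symm, inv_smul_eq_iff.2 g2.symm⟩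
    · exact Or.inr ⟨inv_smul_eq_iff.2 g2.symm, inv_smul_eq_iff.2 g1.symm⟩

omit hT in
theorem mem_pairStab {a b : X} {g : G} :
    g ∈ pairStab (G := G) a b ↔ (g • a = a ∧ g • b = b) ∨ (g • a = b ∧ g • b = a) := Iff.rfl

theorem isCyclic_ptw {a b : X} (hab : a ≠ b) : IsCyclic (ptw (G := G) a b) :=
  hT.cyc a _ (fun g hg => (mem_ptw.1 hg).1) fun g hg e => by
    have h1 : g ≠ 1 := fun e' => by rw [e', orderOf_one] at e; exact hp.out.one_lt.ne e
    exact semisimple_of_fix_two hT h1 hab (mem_ptw.1 hg).1 (mem_ptw.1 hg).2 (by rw [e])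

theorem ptw_comm {a b : X} (hab : a ≠ b) {g h : G} (hg : g ∈ ptw a b) (hh : h ∈ ptw a b) :
    Commute g h := by
  haveI := isCyclic_ptw hT hab
  letI := IsCyclic.commGroup (α := ptw (G := G) a b)
  exact congrArg Subtype.val (mul_comm (⟨g, hg⟩ : ptw (G := G) a b) ⟨h, hh⟩)

/-- In a pair, two commuting elements one of which fixes both and is not an involution. -/
theorem commute_fix {g h : G} (hg1 : g ≠ 1) {a b : X} (hab : a ≠ b) (ha : g • a = a)
    (hb : g • b = b) (hc : Commute g h) : h ∈ pairStab a b := by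
  have e : ∀ c : X, g • c = c → g • h • c = h • c := fun c hc' => by
    rw [← mul_smul, hc.eq, mul_smul, hc']
  rcases mem_of_fix hT hg1 hab ha hb (e a ha) with h1 | h1 <;>
    rcases mem_of_fix hT hg1 hab ha hb (e b hb) with h2 | h2
  · exact absurd (smul_left_cancel h (h1.trans h2.symm)) hab
  · exact Or.inl ⟨h1, h2⟩
  · exact Or.inr ⟨h1, h2⟩
  · exact absurd (smul_left_cancel h (h1.trans h2.symm)) hab

theorem isSolvable_pairStab {a b : X} (hab : a ≠ b) :
    Group.IsSolvable (pairStab (G := G) a b) := by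
  classical
  let f : pairStab (G := G) a b →* Multiplicative (ZMod 2) :=
    MonoidHom.mk' (fun g => if (g : G) • a = a then 1 else Multiplicative.ofAdd 1) fun g h => by
      rcases g.2 with ⟨g1, g2⟩ | ⟨g1, g2⟩ <;> rcases h.2 with ⟨h1, h2⟩ | ⟨h1, h2⟩ <;>
        simp [Subgroup.coe_mul, mul_smul, g1, g2, h1, h2, hab, hab.symm] <;> decide
  haveI := isCyclic_ptw hT hab
  letI := IsCyclic.commGroup (α := ptw (G := G) a b)
  have hle : ptw (G := G) a b ≤ pairStab a b := fun g hg => Or.inl (mem_ptw.1 hg)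
  refine Group.isSolvable_of_ker_le_range (Subgroup.inclusion hle) f fun g hg => ?_
  rcases g.2 with h | h
  · exact ⟨⟨g, mem_ptw.2 h⟩, rfl⟩
  · exfalso
    have h' : f g = 1 := hg
    simp [f, h.1, hab.symm] at h'

omit hT in
theorem isSolvable_le {H K : Subgroup G} (hK : Group.IsSolvable K) (h : H ≤ K) :
    Group.IsSolvable H := by
  haveI := hK
  exact Group.isSolvable_of_isSolvable_injective (f := Subgroup.inclusion h)
    (Subgroup.inclusion_injective h)

/-- A non-trivial solvable subgroup fixes a point, permutes the fixed pair of one of its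
elements, or normalises a four-group. -/
theorem solvable_cases {H : Subgroup G} (hH : Group.IsSolvable H) (hne : H ≠ ⊥) :
    (∃ z : X, ∀ h ∈ H, h • z = z) ∨ (∃ a b : X, a ≠ b ∧ H ≤ pairStab a b) ∨
      (p ≠ 2 ∧ ∃ V : Subgroup G, IsKleinFour V ∧ V ≤ H ∧ H ≤ Subgroup.normalizer (V : Set G)) := by
  classical
  obtain ⟨n, hn⟩ := (Group.isSolvable_def H).1 hH
  have hex : ∃ n, derivedSeries H n = ⊥ := ⟨n, hn⟩
  have hd0 : Nat.find hex ≠ 0 := fun e => hne (by
    have h0 := Nat.find_spec hex
    rw [e, derivedSeries_zero] at h0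
    refine eq_bot_iff.2 fun h hh => ?_
    have h1 : (⟨h, hh⟩ : H) ∈ (⊥ : Subgroup H) := h0 ▸ Subgroup.mem_top (⟨h, hh⟩ : H)
    exact congrArg Subtype.val (Subgroup.mem_bot.1 h1))
  obtain ⟨e, he⟩ := Nat.exists_eq_succ_of_ne_zero hd0
  set A := (derivedSeries H e).map H.subtype with hA
  have hAne : A ≠ ⊥ := fun h => Nat.find_min hex (show e < Nat.find hex by omega)
    ((Subgroup.map_eq_bot_iff_of_injective _ H.subtype_injective).1 h)
  have hAH : A ≤ H := Subgroup.map_subtype_le _
  have hAcomm : ∀ u ∈ A, ∀ v ∈ A, Commute u v := by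
    rintro _ ⟨u, hu, rfl⟩ _ ⟨v, hv, rfl⟩
    have h0 := Nat.find_spec hex
    rw [he, derivedSeries_succ, Subgroup.commutator_eq_bot_iff_le_centralizer] at h0
    exact congrArg Subtype.val (Subgroup.mem_centralizer_iff.1 (h0 hv) u hu)
  have hAnorm : ∀ h ∈ H, ∀ u ∈ A, h * u * h⁻¹ ∈ A := by
    rintro h hh _ ⟨u, hu, rfl⟩
    exact ⟨_, (derivedSeries_normal H e).conj_mem u hu ⟨h, hh⟩, rfl⟩
  obtain ⟨u, huA, hu1⟩ := (A.bot_or_exists_ne_one).resolve_left hAne
  by_cases hup : orderOf u = p
  · obtain ⟨z, hz⟩ := hT.exists_fixed hu1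
    refine Or.inl ⟨z, fun h hh => ?_⟩
    have h1 := hAnorm h hh u huA
    have hm : h * u * h⁻¹ ∈ hT.pSub z := hT.cent_p hup hz (hAcomm _ h1 u huA)
    exact hT.smul_eq_of_conj_mem (g := u) ⟨hz, hup ▸ pow_orderOf_eq_one u⟩ hu1 hm
  right
  obtain ⟨a, b, hab, hf⟩ := hT.exists_pair hu1 hup
  have ha : u • a = a := (hf.symm ▸ Or.inl rfl : a ∈ fixedBy X u)
  have hb : u • b = b := (hf.symm ▸ Or.inr rfl : b ∈ fixedBy X u)
  have hAP : ∀ v ∈ A, v ∈ pairStab a b := fun v hv => commute_fix hT hu1 hab ha hb (hAcomm u huA v hv)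
  by_cases hsw : ∀ v ∈ A, v • a = a
  · refine Or.inl ⟨a, b, hab, fun h hh => ?_⟩
    have hfix : ∀ v ∈ A, v • a = a ∧ v • b = b := fun v hv =>
      (hAP v hv).resolve_right fun h' => hab ((hsw v hv).symm.trans h'.1)
    have key : ∀ c, u • c = c → h • c = a ∨ h • c = b := fun c hc => by
      obtain ⟨e1, e2⟩ := hfix _ (hAnorm h hh u huA)
      refine mem_of_fix hT (fun e' => hu1 (conj_eq_one_iff.1 e')) hab e1 e2 ?_
      rw [mul_smul, inv_smul_smul, mul_smul, hc]
    rcases key a ha with h1 | h1 <;> rcases key b hb with h2 | h2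
    · exact absurd (smul_left_cancel h (h1.trans h2.symm)) hab
    · exact Or.inl ⟨h1, h2⟩
    · exact Or.inr ⟨h1, h2⟩
    · exact absurd (smul_left_cancel h (h1.trans h2.symm)) hab
  · push Not at hsw
    obtain ⟨v, hvA, hva⟩ := hsw
    obtain ⟨v1, v2⟩ := (hAP v hvA).resolve_left fun h' => hva h'.1
    have huu : u * u = 1 := by
      have h := swap_inverts hT hab v1 v2 ha hb
      rw [(hAcomm v hvA u huA).eq, mul_inv_cancel_right] at h
      exact mul_eq_one_iff_eq_inv.2 h
    have hvv := swap_sq hT hab v1 v2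
    have hp2 : p ≠ 2 := fun e2 => hup (e2 ▸ orderOf_eq_prime (by rw [pow_two, huu]) hu1)
    refine Or.inr ⟨hp2, A, ?_, hAH, fun h hh => ?_⟩
    swap
    · refine Subgroup.mem_normalizer_iff.2 fun w => ⟨hAnorm h hh w, fun hw => ?_⟩
      have h' := hAnorm h⁻¹ (H.inv_mem hh) _ hw
      simpa [mul_assoc] using h'
    have huv : u ≠ v := fun e' => hva (e' ▸ ha)
    -- the elements fixing both points
    have hfix : ∀ w ∈ A, w • a = a → w = 1 ∨ w = u := by
      intro w hw hwa
      obtain ⟨w1, w2⟩ := (hAP w hw).resolve_right fun h' => hab (hwa.symm.trans h'.1)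
      have hww : w * w = 1 := by
        have h := swap_inverts hT hab v1 v2 w1 w2
        rw [(hAcomm v hvA w hw).eq, mul_inv_cancel_right] at h
        exact mul_eq_one_iff_eq_inv.2 h
      haveI := isCyclic_ptw hT hab
      haveI := Fintype.ofFinite (ptw (G := G) a b)
      have hc : Finset.card (Finset.univ.filter fun z : ptw (G := G) a b => z ^ 2 = 1) ≤ 2 :=
        IsCyclic.card_pow_eq_one_le (by norm_num)
      by_contra hcon
      push Not at hcon
      let U : ptw (G := G) a b := ⟨u, mem_ptw.2 ⟨ha, hb⟩⟩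
      let W : ptw (G := G) a b := ⟨w, mem_ptw.2 ⟨w1, w2⟩⟩
      have hsub : ({1, U, W} : Finset (ptw (G := G) a b)) ⊆
          Finset.univ.filter fun z : ptw (G := G) a b => z ^ 2 = 1 := by
        intro z hz
        simp only [Finset.mem_insert, Finset.mem_singleton] at hz
        rcases hz with rfl | rfl | rfl <;> refine Finset.mem_filter.2 ⟨Finset.mem_univ _, ?_⟩
        · simp
        · exact Subtype.ext (by simpa [pow_two] using huu)
        · exact Subtype.ext (by simpa [pow_two] using hww)
      have h3 := (Finset.card_le_card hsub).trans hc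
      rw [Finset.card_insert_of_notMem, Finset.card_insert_of_notMem, Finset.card_singleton] at h3
      · omega
      · simp only [Finset.mem_singleton]
        exact fun e' => hcon.2 (congrArg Subtype.val e').symm
      · simp only [Finset.mem_insert, Finset.mem_singleton, not_or]
        exact ⟨fun e' => hu1 (congrArg Subtype.val e').symm,
          fun e' => hcon.1 (congrArg Subtype.val e').symm⟩
    have hall : (A : Set G) = {1, u, v, v * u} := by
      ext w
      simp only [SetLike.mem_coe, Set.mem_insert_iff, Set.mem_singleton_iff]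
      constructor
      · intro hw
        rcases hAP w hw with h' | h'
        · rcases hfix w hw h'.1 with h'' | h''
          · exact Or.inl h''
          · exact Or.inr (Or.inl h'')
        · rcases hfix (v * w) (A.mul_mem hvA hw) (by rw [mul_smul, h'.1, v2]) with h'' | h''
          · exact Or.inr (Or.inr (Or.inl (by
              rw [← inv_eq_of_mul_eq_one_right h'', inv_eq_of_mul_eq_one_right hvv])))
          · refine Or.inr (Or.inr (Or.inr ?_))
            rw [← h'', ← mul_assoc, hvv, one_mul]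
      · rintro (rfl | rfl | rfl | rfl)
        exacts [A.one_mem, huA, hvA, A.mul_mem hvA huA]
    have hv1 : v ≠ 1 := fun e' => hva (by rw [e', one_smul])
    have hvu1 : v * u ≠ 1 := fun e' => huv (by
      rw [← inv_eq_of_mul_eq_one_right e', inv_eq_of_mul_eq_one_right hvv])
    have hcard : Nat.card A = 4 := by
      show Nat.card (A : Set G) = 4
      rw [Nat.card_coe_set_eq, hall, Set.ncard_insert_of_notMem, Set.ncard_insert_of_notMem,
        Set.ncard_pair]
      · simp [hu1]
      · simp only [Set.mem_insert_iff, Set.mem_singleton_iff, not_or]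
        exact ⟨huv, fun e' => hv1 (mul_eq_right.1 e'.symm)⟩
      · simp only [Set.mem_insert_iff, Set.mem_singleton_iff, not_or]
        exact ⟨hu1.symm, hv1.symm, hvu1.symm⟩
    refine ⟨hcard, Nat.dvd_antisymm (Monoid.exponent_dvd_of_forall_pow_eq_one fun w => ?_) ?_⟩
    · refine Subtype.ext ?_
      rw [Subgroup.coe_pow, Subgroup.coe_one, pow_two]
      rcases (hall ▸ w.2 : (w : G) ∈ ({1, u, v, v * u} : Set G)) with h' | h' | h' | h' <;> rw [h']
      · exact mul_one 1
      · exact huu
      · exact hvv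
      · rw [(hAcomm v hvA u huA).eq, mul_assoc, ← mul_assoc v, (hAcomm v hvA u huA).eq, mul_assoc,
          hvv, mul_one, huu]
    · have h2 : orderOf (⟨u, huA⟩ : A) = 2 := by
        rw [Subgroup.orderOf_mk, orderOf_eq_prime (by rw [pow_two, huu]) hu1]
      exact h2 ▸ Monoid.order_dvd_exponent _

end Cfsg.Agent.Forms.SolubilizerPSL2
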