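import Mathlib
import Cfsg.Agent.Lib.Forms.SolubilizerPSL2.Basic

/-!
# Tori in a two-point group with the order of `PSL₂(q)`

Counting elements by their fixed points shows that every pair fixed by a semisimple element is
either a pair of rational points, with stabiliser of order `(q - 1) / d`, or lies in a single orbit
of irrational pairs, with stabiliser of order `(q + 1) / d`; in both cases the pair can be swapped.
-/

set_option autoImplicit false
set_option linter.unusedSectionVars false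

namespace Cfsg.Agent.Forms.SolubilizerPSL2

open MulAction
open Cfsg.Agent.Forms.DicksonBasic

/-- A point fixed by an element of order `p`. -/
def IsRat (p : ℕ) (G : Type*) {X : Type*} [Group G] [MulAction G X] (z : X) : Prop :=
  ∃ g : G, orderOf g = p ∧ g • z = z

/-- The elements with no fixed rational point. -/
def ell (p : ℕ) (G : Type*) (X : Type*) [Group G] [MulAction G X] : Set G :=
  {g | g ≠ 1 ∧ ∀ z : X, IsRat p G z → g • z ≠ z}

/-- The solubilizer. -/
def sol {G : Type*} [Group G] (x : G) : Set G :=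
  {y | Group.IsSolvable (Subgroup.closure ({x, y} : Set G))}

/-- The numerical data of `PSL₂(q)`. -/
structure Data (p : ℕ) [Fact p.Prime] (G : Type*) (X : Type*) [Group G] [MulAction G X] (q d : ℕ) :
    Prop where
  two : TwoPt p G X
  card : d * Nat.card G = q * ((q - 1) * (q + 1))
  two_le : 2 ≤ q
  index : ∀ z : X, IsRat p G z → (stabilizer G z).index = q + 1
  natCard_pSub : ∀ z : X, IsRat p G z → Nat.card (two.pSub z) = q
  exists_rat : ∃ z : X, IsRat p G z
  solvable : ∀ (H : Subgroup G) (z : X), (∀ h ∈ H, h • z = z) → Group.IsSolvable H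

/-- Conjugates of a TI-set. -/
theorem ncard_conjs {G : Type*} [Group G] [Finite G] (S : Set G) (M : Subgroup G)
    (h : ∀ k, ∀ s ∈ S, (k * s * k⁻¹ ∈ S ↔ k ∈ M)) :
    {g | ∃ k, ∃ s ∈ S, g = k * s * k⁻¹}.ncard * Nat.card M = Nat.card G * S.ncard := by
  classical
  rw [← Nat.card_coe_set_eq, ← Nat.card_coe_set_eq, ← Nat.card_prod, ← Nat.card_prod]
  choose c s hs hcs using fun g : {g | ∃ k, ∃ s ∈ S, g = k * s * k⁻¹} => g.2
  refine (Nat.card_eq_of_bijective (fun u : {g | ∃ k, ∃ s ∈ S, g = k * s * k⁻¹} × M =>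
    ((c u.1 * u.2 : G), (⟨(u.2 : G)⁻¹ * s u.1 * (u.2 : G), ?_⟩ : S))) ⟨?_, ?_⟩)
  · have h1 := (h (u.2 : G)⁻¹ _ (hs u.1)).2 (M.inv_mem u.2.2)
    rwa [inv_inv] at h1
  · rintro ⟨g, m⟩ ⟨g', m'⟩ e
    simp only [Prod.mk.injEq, Subtype.mk.injEq] at e
    have hg : g = g' := Subtype.ext (by
      rw [hcs g, hcs g']
      calc c g * s g * (c g)⁻¹
          = (c g * (m : G)) * ((m : G)⁻¹ * s g * (m : G)) * (c g * (m : G))⁻¹ := by group
        _ = (c g' * (m' : G)) * ((m' : G)⁻¹ * s g' * (m' : G)) * (c g' * (m' : G))⁻¹ := by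
          rw [e.1, e.2]
        _ = c g' * s g' * (c g')⁻¹ := by group)
    subst hg
    rw [Subtype.ext (mul_left_cancel e.1)]
  · rintro ⟨k, ⟨t, ht⟩⟩
    set g : {g | ∃ k, ∃ s ∈ S, g = k * s * k⁻¹} := ⟨k * t * k⁻¹, k, t, ht, rfl⟩ with hg
    have e : (c g)⁻¹ * k * t * ((c g)⁻¹ * k)⁻¹ = s g := by
      have h1 : k * t * k⁻¹ = c g * s g * (c g)⁻¹ := hcs g
      calc (c g)⁻¹ * k * t * ((c g)⁻¹ * k)⁻¹ = (c g)⁻¹ * (k * t * k⁻¹) * c g := by group
        _ = s g := by rw [h1]; group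
    refine ⟨(g, ⟨(c g)⁻¹ * k, (h _ t ht).1 (e ▸ hs g)⟩), ?_⟩
    simp only [Prod.mk.injEq, Subtype.mk.injEq, mul_inv_cancel_left, true_and]
    rw [← e]
    group

variable {p : ℕ} {G : Type*} {X : Type*} [Group G] [MulAction G X] [Finite G]
  [hp : Fact p.Prime] {q d : ℕ} (hD : Data p G X q d)

include hD

theorem card_pos : 0 < d ∧ q * (q - 1) < d * Nat.card G := by
  have h1 := hD.card
  have h2 := hD.two_le
  have h3 : 0 < q * (q - 1) := Nat.mul_pos (by omega) (by omega)
  have h4 : q * (q - 1) * 1 < q * (q - 1) * (q + 1) := Nat.mul_lt_mul_of_pos_left (by omega) h3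
  rw [mul_one] at h4
  rw [← mul_assoc] at h1
  refine ⟨Nat.pos_of_ne_zero fun e => ?_, by omega⟩
  rw [e, zero_mul] at h1
  omega

omit hD in
theorem rat_smul {z : X} (hz : IsRat p G z) (h : G) : IsRat p G (h • z) := by
  obtain ⟨g, hg, hgz⟩ := hz
  refine ⟨h * g * h⁻¹, ?_, by rw [mul_smul, mul_smul, inv_smul_smul, hgz]⟩
  rw [← MulAut.conj_apply, MulEquiv.orderOf_eq, hg]

omit hD in
theorem rat_smul_iff {z : X} {h : G} : IsRat p G (h • z) ↔ IsRat p G z :=
  ⟨fun hh => by simpa using rat_smul hh h⁻¹, fun hh => rat_smul hh h⟩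

theorem pSub_ne_bot {z : X} (hz : IsRat p G z) : hD.two.pSub z ≠ ⊥ := by
  obtain ⟨g, hg, hgz⟩ := hz
  intro e
  have h1 : g ∈ hD.two.pSub z := ⟨hgz, hg ▸ pow_orderOf_eq_one g⟩
  rw [e, Subgroup.mem_bot] at h1
  rw [h1, orderOf_one] at hg
  exact hp.out.one_lt.ne hg

theorem rat_eq_orbit {z : X} (hz : IsRat p G z) : {w : X | IsRat p G w} = orbit G z := by
  ext w
  refine ⟨fun hw => hD.two.orbit_pSub (pSub_ne_bot hD hz) (pSub_ne_bot hD hw), ?_⟩
  rintro ⟨h, rfl⟩
  exact rat_smul hz h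

theorem finite_rat : {w : X | IsRat p G w}.Finite := by
  obtain ⟨z, hz⟩ := hD.exists_rat
  rw [rat_eq_orbit hD hz]
  exact (Set.finite_range fun g : G => g • z)

theorem ncard_rat : {w : X | IsRat p G w}.ncard = q + 1 := by
  obtain ⟨z, hz⟩ := hD.exists_rat
  rw [rat_eq_orbit hD hz, ← index_stabilizer, hD.index z hz]

theorem natCard_stab {z : X} (hz : IsRat p G z) :
    d * Nat.card (stabilizer G z) = q * (q - 1) := by
  refine Nat.eq_of_mul_eq_mul_left (show 0 < q + 1 by omega) ?_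
  rw [mul_left_comm, ← hD.index z hz, (stabilizer G z).index_mul_card, hD.card, hD.index z hz]
  ring

theorem exists_pSub_smul {a b c : X} (ha : IsRat p G a) (hb : IsRat p G b) (hc : IsRat p G c)
    (hba : b ≠ a) (hca : c ≠ a) : ∃ h ∈ hD.two.pSub a, h • b = c := by
  classical
  have hinj : Function.Injective fun h : hD.two.pSub a => (h : G) • b := by
    intro g h e
    by_contra hne
    have hm := (hD.two.pSub a).mul_mem ((hD.two.pSub a).inv_mem g.2) h.2
    have h1 : (g : G)⁻¹ * h ≠ 1 := fun e' => hne (Subtype.ext (inv_mul_eq_one.1 e'))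
    refine hba (hD.two.eq_of_fix (hD.two.orderOf_of_mem hm h1) hm.1 ?_)
    rw [mul_smul, show (h : G) • b = (g : G) • b from e.symm, inv_smul_smul]
  have himg : Set.range (fun h : hD.two.pSub a => (h : G) • b) = {w : X | IsRat p G w} \ {a} := by
    refine Set.eq_of_subset_of_ncard_le ?_ ?_ ((finite_rat hD).subset Set.sdiff_subset)
    · rintro _ ⟨h, rfl⟩
      exact ⟨rat_smul hb _, fun e => hba (smul_left_cancel (h : G) (e.trans h.2.1.symm))⟩
    · rw [Set.ncard_sdiff_singleton_of_mem (show a ∈ {w : X | IsRat p G w} from ha), ncard_rat hD,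
        ← Nat.card_coe_set_eq, Nat.card_range_of_injective hinj, hD.natCard_pSub a ha]
      omega
  obtain ⟨h, hh⟩ : c ∈ Set.range (fun h : hD.two.pSub a => (h : G) • b) := himg ▸ ⟨hc, hca⟩
  exact ⟨h, h.2, hh⟩

/-- The action on rational points is doubly transitive. -/
theorem exists_smul_rat {a b a' b' : X} (ha : IsRat p G a) (hb : IsRat p G b) (ha' : IsRat p G a')
    (hb' : IsRat p G b') (hab : a ≠ b) (hab' : a' ≠ b') : ∃ g : G, g • a = a' ∧ g • b = b' := by
  obtain ⟨g, hg⟩ : ∃ g : G, g • a = a' :=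
    hD.two.orbit_pSub (pSub_ne_bot hD ha) (pSub_ne_bot hD ha')
  obtain ⟨h, hh, hhb⟩ := exists_pSub_smul hD ha' (rat_smul hb g) hb'
    (fun e => hab (smul_left_cancel g (hg.trans e.symm))) hab'.symm
  exact ⟨h * g, by rw [mul_smul, hg, hh.1], by rw [mul_smul, hhb]⟩

theorem natCard_ptw_rat {a b : X} (ha : IsRat p G a) (hb : IsRat p G b) (hab : a ≠ b) :
    d * Nat.card (ptw (G := G) a b) = q - 1 := by
  have hbij : Function.Bijective fun u : hD.two.pSub a × ptw (G := G) a b =>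
      (⟨(u.1 : G) * u.2, by
        rw [mem_stabilizer_iff, mul_smul, (mem_ptw.1 u.2.2).1, u.1.2.1]⟩ : stabilizer G a) := by
    refine ⟨?_, ?_⟩
    · rintro ⟨h, t⟩ ⟨h', t'⟩ e
      have e' : (h : G) * t = h' * t' := congrArg Subtype.val e
      have hm := (hD.two.pSub a).mul_mem ((hD.two.pSub a).inv_mem h'.2) h.2
      have he : (h' : G)⁻¹ * h = 1 := by
        by_contra h1
        refine hab (hD.two.eq_of_fix (hD.two.orderOf_of_mem hm h1) ?_ hm.1)
        have : (h' : G)⁻¹ * h = t' * (t : G)⁻¹ := by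
          rw [eq_mul_inv_iff_mul_eq, mul_assoc, e', inv_mul_cancel_left]
        rw [this, mul_smul, inv_smul_eq_iff.2 (mem_ptw.1 t.2).2.symm, (mem_ptw.1 t'.2).2]
      have h1 : (h : G) = h' := (inv_mul_eq_one.1 he).symm
      rw [h1] at e'
      exact Prod.ext (Subtype.ext h1) (Subtype.ext (mul_left_cancel e'))
    · rintro ⟨g, hg⟩
      obtain ⟨h, hh, hhb⟩ := exists_pSub_smul hD ha hb (rat_smul hb g) hab.symm
        (fun e => hab.symm (smul_left_cancel g (e.trans hg.symm)))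
      refine ⟨(⟨h, hh⟩, ⟨h⁻¹ * g, mem_ptw.2 ⟨?_, ?_⟩⟩), Subtype.ext (mul_inv_cancel_left h g)⟩
      · rw [mul_smul, show g • a = a from hg, inv_smul_eq_iff.2 hh.1.symm]
      · rw [mul_smul, ← hhb, inv_smul_smul]
  have h := Nat.card_eq_of_bijective _ hbij
  rw [Nat.card_prod, hD.natCard_pSub a ha] at h
  refine Nat.eq_of_mul_eq_mul_left (show 0 < q by have := hD.two_le; omega) ?_
  rw [mul_left_comm, h, natCard_stab hD ha]

/-- A semisimple element fixing a rational point fixes two. -/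
theorem exists_rat_pair {g : G} (hg1 : g ≠ 1) (hgp : orderOf g ≠ p) {a : X} (ha : IsRat p G a)
    (hga : g • a = a) : ∃ b, b ≠ a ∧ IsRat p G b ∧ g • b = b := by
  classical
  obtain ⟨b, hb, hba⟩ : ∃ b, IsRat p G b ∧ b ≠ a := by
    by_contra h
    push Not at h
    have h1 : {w : X | IsRat p G w}.ncard ≤ ({a} : Set X).ncard :=
      Set.ncard_le_ncard (fun w hw => h w hw) (Set.finite_singleton a)
    rw [ncard_rat hD, Set.ncard_singleton] at h1
    have := hD.two_le
    omega
  obtain ⟨h, hh, hhb⟩ := exists_pSub_smul hD ha hb (rat_smul hb g) hba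
    (fun e => hba (smul_left_cancel g (e.trans hga.symm)))
  set t := h⁻¹ * g with ht
  have hta : t • a = a := by rw [ht, mul_smul, hga, inv_smul_eq_iff.2 hh.1.symm]
  have htb : t • b = b := by rw [ht, mul_smul, ← hhb, inv_smul_smul]
  have hti : t⁻¹ • a = a := inv_smul_eq_iff.2 hta.symm
  have hgt : g = h * t := (mul_inv_cancel_left h g).symm
  by_cases ht1 : t = 1
  · refine absurd (orderOf_eq_prime ?_ hg1) hgp
    rw [hgt, ht1, mul_one]
    exact hh.2
  let f : hD.two.pSub a → hD.two.pSub a := fun k => ⟨(k : G) * (t * (k : G)⁻¹ * t⁻¹),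
    (hD.two.pSub a).mul_mem k.2 (hD.two.conj_mem_pSub hta ((hD.two.pSub a).inv_mem k.2))⟩
  have hinj : Function.Injective f := by
    intro k k' e
    have e' : (k : G) * (t * (k : G)⁻¹ * t⁻¹) = k' * (t * (k' : G)⁻¹ * t⁻¹) := congrArg Subtype.val e
    have hc : Commute t ((k' : G)⁻¹ * k) := by
      show t * ((k' : G)⁻¹ * k) = (k' : G)⁻¹ * k * t
      calc t * ((k' : G)⁻¹ * k)
          = (k' : G)⁻¹ * ((k' : G) * (t * (k' : G)⁻¹ * t⁻¹)) * (t * k) := by group
        _ = (k' : G)⁻¹ * ((k : G) * (t * (k : G)⁻¹ * t⁻¹)) * (t * k) := by rw [e']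
        _ = (k' : G)⁻¹ * k * t := by group
    have hm := (hD.two.pSub a).mul_mem ((hD.two.pSub a).inv_mem k'.2) k.2
    by_contra hne
    have h1 : (k' : G)⁻¹ * k ≠ 1 := fun e'' => hne (Subtype.ext (inv_mul_eq_one.1 e'').symm)
    rcases commute_fix hD.two ht1 hba.symm hta htb hc with ⟨-, h2⟩ | ⟨h2, -⟩
    · exact hba (hD.two.eq_of_fix (hD.two.orderOf_of_mem hm h1) hm.1 h2)
    · exact hba (h2.symm.trans hm.1)
  obtain ⟨k, hk⟩ := Finite.injective_iff_surjective.1 hinj ⟨h, hh⟩
  have e : g = (k : G) * t * (k : G)⁻¹ := by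
    have ek : (k : G) * (t * (k : G)⁻¹ * t⁻¹) = h := congrArg Subtype.val hk
    rw [hgt, ← ek]
    group
  refine ⟨(k : G) • b, fun e' => hba (smul_left_cancel (k : G) (e'.trans k.2.1.symm)),
    rat_smul hb _, ?_⟩
  rw [e, mul_smul, mul_smul, inv_smul_smul, htb]

/-- The rational pairs and the irrational ones. -/
theorem rat_iff {g : G} (hg1 : g ≠ 1) {a b : X} (hab : a ≠ b) (hga : g • a = a) (hgb : g • b = b) :
    IsRat p G a ↔ IsRat p G b := by
  have hgp : orderOf g ≠ p := fun e => hab (hD.two.eq_of_fix e hgb hga)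
  constructor <;> intro h
  · obtain ⟨c, hca, hc, hgc⟩ := exists_rat_pair hD hg1 hgp h hga
    rcases mem_of_fix hD.two hg1 hab hga hgb hgc with rfl | rfl
    · exact absurd rfl hca
    · exact hc
  · obtain ⟨c, hcb, hc, hgc⟩ := exists_rat_pair hD hg1 hgp h hgb
    rcases mem_of_fix hD.two hg1 hab hga hgb hgc with rfl | rfl
    · exact hc
    · exact absurd rfl hcb

theorem ncard_orderOf_p : {g : G | orderOf g = p}.ncard = (q + 1) * (q - 1) := by
  classical
  haveI : Finite {w : X | IsRat p G w} := (finite_rat hD).to_subtype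
  haveI := Fintype.ofFinite {w : X | IsRat p G w}
  have hR : ∀ g : G, orderOf g = p → ∃ z : X, g • z = z := fun g hg =>
    hD.two.exists_fixed fun e => by rw [e, orderOf_one] at hg; exact hp.out.one_lt.ne hg
  choose z hz using hR
  have hbij : Function.Bijective
      (fun u : Σ w : {w : X | IsRat p G w}, {h : hD.two.pSub (w : X) // h ≠ 1} =>
        (⟨(u.2.1 : G), hD.two.orderOf_of_mem u.2.1.2 fun e => u.2.2 (Subtype.ext e)⟩ :
          {g : G | orderOf g = p})) := by
    refine ⟨?_, ?_⟩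
    · rintro ⟨⟨w, hw⟩, ⟨⟨h, hh⟩, h1⟩⟩ ⟨⟨w', hw'⟩, ⟨⟨h', hh'⟩, h1'⟩⟩ e
      have e' : h = h' := congrArg Subtype.val e
      subst e'
      have : w = w' := (hD.two.eq_of_fix (hD.two.orderOf_of_mem hh fun e => h1 (Subtype.ext e))
        hh.1 hh'.1).symm
      subst this
      rfl
    · rintro ⟨g, hg⟩
      exact ⟨⟨⟨z g hg, g, hg, hz g hg⟩, ⟨⟨g, hz g hg, hg ▸ pow_orderOf_eq_one g⟩, fun e => by
        rw [Set.mem_setOf_eq, show g = 1 from congrArg Subtype.val e, orderOf_one] at hg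
        exact hp.out.one_lt.ne hg⟩⟩, rfl⟩
  rw [← Nat.card_coe_set_eq, ← Nat.card_eq_of_bijective _ hbij, Nat.card_sigma]
  have hc : ∀ w : {w : X | IsRat p G w}, Nat.card {h : hD.two.pSub (w : X) // h ≠ 1} = q - 1 := by
    intro w
    haveI := Fintype.ofFinite (hD.two.pSub (w : X))
    rw [Nat.card_eq_fintype_card, Fintype.card_subtype_compl, Fintype.card_subtype_eq,
      ← Nat.card_eq_fintype_card, hD.natCard_pSub _ w.2]
  rw [Finset.sum_congr rfl (fun w _ => hc w), Finset.sum_const, Finset.card_univ, smul_eq_mul,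
    ← Nat.card_eq_fintype_card, Nat.card_coe_set_eq, ncard_rat hD]

theorem two_mul_ncard_ell : 2 * (ell p G X).ncard + q * (q - 1) = Nat.card G := by
  classical
  haveI := Fintype.ofFinite G
  set R := (finite_rat hD).toFinset with hRdef
  have hmR : ∀ w, w ∈ R ↔ IsRat p G w := fun w => Set.Finite.mem_toFinset _
  have hRc : R.card = q + 1 := by
    rw [hRdef, ← Set.ncard_eq_toFinset_card _ (finite_rat hD), ncard_rat hD]
  have hburn : ∑ g : G, (R.filter fun w => g • w = w).card = Nat.card G := by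
    obtain ⟨z, hz⟩ := hD.exists_rat
    have hd := (card_pos hD).1
    have h1 : ∀ w ∈ R, (Finset.univ.filter fun g : G => g • w = w).card = Nat.card (stabilizer G z) := by
      intro w hw
      have hs : Nat.card (stabilizer G w) = Nat.card (stabilizer G z) :=
        Nat.eq_of_mul_eq_mul_left hd (by rw [natCard_stab hD ((hmR w).1 hw), natCard_stab hD hz])
      rw [← hs, Nat.card_eq_fintype_card]
      exact (Fintype.card_subtype _).symm
    simp only [Finset.card_filter] at h1 ⊢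
    rw [Finset.sum_comm, Finset.sum_congr rfl h1, Finset.sum_const, smul_eq_mul, hRc,
      ← hD.index z hz]
    exact (stabilizer G z).index_mul_card
  have hkey : ∀ g : G, (R.filter fun w => g • w = w).card +
      (if orderOf g = p then 1 else 0) + 2 * (if g ∈ ell p G X then 1 else 0) =
      2 + (if g = 1 then q - 1 else 0) := by
    intro g
    rcases eq_or_ne g 1 with rfl | hg1
    · have he : (1 : G) ∉ ell p G X := fun h => h.1 rfl
      have := hD.two_le
      rw [if_neg he, if_pos rfl, if_neg (by rw [orderOf_one]; exact hp.out.one_lt.ne),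
        Finset.filter_true_of_mem (fun w _ => one_smul G w), hRc]
      omega
    rw [if_neg hg1]
    by_cases hgp : orderOf g = p
    · obtain ⟨z, hz⟩ := hD.two.exists_fixed hg1
      have he : g ∉ ell p G X := fun h => h.2 z ⟨g, hgp, hz⟩ hz
      have hf : (R.filter fun w => g • w = w) = {z} := by
        ext w
        rw [Finset.mem_filter, Finset.mem_singleton, hmR]
        exact ⟨fun h => hD.two.eq_of_fix hgp hz h.2, fun h => h ▸ ⟨⟨g, hgp, hz⟩, hz⟩⟩
      rw [if_pos hgp, if_neg he, hf, Finset.card_singleton]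
    rw [if_neg hgp]
    by_cases he : g ∈ ell p G X
    · rw [if_pos he, Finset.filter_false_of_mem (fun w hw => he.2 w ((hmR w).1 hw)),
        Finset.card_empty]
    · obtain ⟨a, ha, hga⟩ : ∃ a, IsRat p G a ∧ g • a = a := by
        by_contra h
        exact he ⟨hg1, fun z hz hgz => h ⟨z, hz, hgz⟩⟩
      obtain ⟨b, hba, hb, hgb⟩ := exists_rat_pair hD hg1 hgp ha hga
      have hf : (R.filter fun w => g • w = w) = {a, b} := by
        ext w
        rw [Finset.mem_filter, Finset.mem_insert, Finset.mem_singleton, hmR]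
        refine ⟨fun h => mem_of_fix hD.two hg1 hba.symm hga hgb h.2, ?_⟩
        rintro (rfl | rfl)
        exacts [⟨ha, hga⟩, ⟨hb, hgb⟩]
      rw [if_neg he, hf, Finset.card_pair hba.symm]
  have hs := Finset.sum_congr rfl (fun g (_ : g ∈ (Finset.univ : Finset G)) => hkey g)
  rw [Finset.sum_add_distrib, Finset.sum_add_distrib, Finset.sum_add_distrib, hburn, ← Finset.mul_sum,
    Finset.sum_boole, Finset.sum_boole, Finset.sum_ite_eq', if_pos (Finset.mem_univ _),
    Finset.sum_const, Finset.card_univ, smul_eq_mul, ← Nat.card_eq_fintype_card] at hs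
  have hp' : (Finset.univ.filter fun g : G => orderOf g = p).card = (q + 1) * (q - 1) := by
    rw [← ncard_orderOf_p hD, ← Set.ncard_coe_finset]
    congr 1
    ext g
    simp
  have he' : (Finset.univ.filter fun g : G => g ∈ ell p G X).card = (ell p G X).ncard := by
    rw [← Set.ncard_coe_finset]
    congr 1
    ext g
    simp
  simp only [Nat.cast_id] at hs
  rw [hp', he', add_mul, one_mul] at hs
  omega

/-- A pair of irrational points has one stabiliser. -/
theorem fix_of_fix_irrat {g : G} (hg1 : g ≠ 1) {a b : X} (hab : a ≠ b) (hga : g • a = a)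
    (hgb : g • b = b) (hna : ¬ IsRat p G a) {h : G} (hha : h • a = a) : h • b = b := by
  haveI : IsCyclic (stabilizer G a) := hD.two.cyc a _ (fun k hk => hk)
    fun k hk e => hna ⟨k, e, hk⟩
  letI := IsCyclic.commGroup (α := stabilizer G a)
  have hc : Commute g h :=
    congrArg Subtype.val (mul_comm (⟨g, hga⟩ : stabilizer G a) ⟨h, hha⟩)
  rcases commute_fix hD.two hg1 hab hga hgb hc with h' | h'
  · exact h'.2
  · exact absurd (hha.symm.trans h'.1) hab

omit hD in
theorem ptw_le_pairStab (a b : X) : ptw (G := G) a b ≤ pairStab a b :=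
  fun _ hg => Or.inl (mem_ptw.1 hg)

omit hD in
theorem natCard_pairStab_of_swap {a b : X} (hab : a ≠ b) {s : G} (hsa : s • a = b) (hsb : s • b = a) :
    Nat.card (pairStab (G := G) a b) = 2 * Nat.card (ptw (G := G) a b) := by
  classical
  have hu : (pairStab (G := G) a b : Set G) = (ptw (G := G) a b : Set G) ∪
      (fun t => s * t) '' (ptw (G := G) a b : Set G) := by
    ext g
    simp only [SetLike.mem_coe, Set.mem_union, Set.mem_image]
    refine ⟨?_, ?_⟩
    · rintro (h | h)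
      · exact Or.inl (mem_ptw.2 h)
      · exact Or.inr ⟨s⁻¹ * g, mem_ptw.2 ⟨by rw [mul_smul, h.1, inv_smul_eq_iff.2 hsa.symm],
          by rw [mul_smul, h.2, inv_smul_eq_iff.2 hsb.symm]⟩, mul_inv_cancel_left s g⟩
    · rintro (h | ⟨t, ht, rfl⟩)
      · exact ptw_le_pairStab a b h
      · exact Or.inr ⟨by rw [mul_smul, (mem_ptw.1 ht).1, hsa], by rw [mul_smul, (mem_ptw.1 ht).2, hsb]⟩
  show Nat.card (pairStab (G := G) a b : Set G) = 2 * Nat.card (ptw (G := G) a b : Set G)
  rw [Nat.card_coe_set_eq, Nat.card_coe_set_eq, hu, Set.ncard_union_eq ?_,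
    Set.ncard_image_of_injective _ (mul_right_injective s), two_mul]
  refine Set.disjoint_left.2 ?_
  rintro _ hg ⟨t, ht, rfl⟩
  refine hab ?_
  have h1 := (mem_ptw.1 hg).1
  rw [mul_smul, (mem_ptw.1 ht).1, hsa] at h1
  exact h1.symm

/-- The conjugates of the non-trivial elements of an irrational torus. -/
theorem conjs_torus {g : G} (hg1 : g ≠ 1) {a b : X} (hab : a ≠ b) (hga : g • a = a)
    (hgb : g • b = b) (hna : ¬ IsRat p G a) :
    {k | ∃ h, ∃ t ∈ (ptw (G := G) a b : Set G) \ {1}, k = h * t * h⁻¹} ⊆ ell p G X ∧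
      {k | ∃ h, ∃ t ∈ (ptw (G := G) a b : Set G) \ {1}, k = h * t * h⁻¹}.ncard *
        Nat.card (pairStab (G := G) a b) = Nat.card G * (Nat.card (ptw (G := G) a b) - 1) := by
  have hnb : ¬ IsRat p G b := fun h => hna ((rat_iff hD hg1 hab hga hgb).2 h)
  constructor
  · rintro _ ⟨h, t, ⟨ht, ht1⟩, rfl⟩
    obtain ⟨t1, t2⟩ := mem_ptw.1 ht
    refine ⟨fun e => ht1 (conj_eq_one_iff.1 e), fun z hz e => ?_⟩
    have e' : t • h⁻¹ • z = h⁻¹ • z := by
      rw [mul_smul, mul_smul] at e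
      exact eq_inv_smul_iff.2 e
    rcases mem_of_fix hD.two ht1 hab t1 t2 e' with e'' | e''
    · exact hna (e'' ▸ rat_smul hz _)
    · exact hnb (e'' ▸ rat_smul hz _)
  · rw [ncard_conjs _ (pairStab (G := G) a b), Set.ncard_sdiff_singleton_of_mem (one_mem (ptw a b))]
    · rw [← Nat.card_coe_set_eq]
      rfl
    rintro k t ⟨ht, ht1⟩
    obtain ⟨t1, t2⟩ := mem_ptw.1 ht
    constructor
    · rintro ⟨hk, hk1⟩
      obtain ⟨k1, k2⟩ := mem_ptw.1 hk
      have hf : ∀ c : X, t • c = c → k • c = a ∨ k • c = b := fun c hc => by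
        refine mem_of_fix hD.two hk1 hab k1 k2 ?_
        rw [mul_smul, inv_smul_smul, mul_smul, hc]
      rcases hf a t1 with h1 | h1 <;> rcases hf b t2 with h2 | h2
      · exact absurd (smul_left_cancel k (h1.trans h2.symm)) hab
      · exact Or.inl ⟨h1, h2⟩
      · exact Or.inr ⟨h1, h2⟩
      · exact absurd (smul_left_cancel k (h1.trans h2.symm)) hab
    · intro hk
      refine ⟨?_, fun e => ht1 (conj_eq_one_iff.1 e)⟩
      have hf : ∀ c : X, t • c = c → (k * t * k⁻¹) • (k • c) = k • c := fun c hc => by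
        rw [mul_smul, mul_smul, inv_smul_smul, hc]
      rcases hk with ⟨k1, k2⟩ | ⟨k1, k2⟩
      · exact mem_ptw.2 ⟨k1 ▸ hf a t1, k2 ▸ hf b t2⟩
      · exact mem_ptw.2 ⟨k2 ▸ hf b t2, k1 ▸ hf a t1⟩

theorem two_le_ptw {g : G} (hg1 : g ≠ 1) {a b : X} (hga : g • a = a) (hgb : g • b = b) :
    2 ≤ Nat.card (ptw (G := G) a b) := by
  haveI : Nontrivial (ptw (G := G) a b) :=
    ⟨⟨⟨g, mem_ptw.2 ⟨hga, hgb⟩⟩, 1, fun e => hg1 (congrArg Subtype.val e)⟩⟩
  exact Finite.one_lt_card

/-- An irrational pair can be swapped. -/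
theorem swap_irrat {g : G} (hg1 : g ≠ 1) {a b : X} (hab : a ≠ b) (hga : g • a = a)
    (hgb : g • b = b) (hna : ¬ IsRat p G a) : ∃ s : G, s • a = b ∧ s • b = a := by
  by_contra h
  obtain ⟨hsub, hc⟩ := conjs_torus hD hg1 hab hga hgb hna
  have hle := Set.ncard_le_ncard hsub (Set.toFinite _)
  have hM : pairStab (G := G) a b = ptw a b := by
    refine le_antisymm (fun k hk => ?_) (ptw_le_pairStab a b)
    rcases hk with hk | hk
    · exact mem_ptw.2 hk
    · exact absurd ⟨k, hk⟩ h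
  rw [hM] at hc
  have ht := two_le_ptw hD hg1 hga hgb
  set c := {k | ∃ h, ∃ t ∈ (ptw (G := G) a b : Set G) \ {1}, k = h * t * h⁻¹}.ncard
  set t := Nat.card (ptw (G := G) a b)
  have hN := two_mul_ncard_ell hD
  have hq : 0 < q * (q - 1) := Nat.mul_pos (by have := hD.two_le; omega) (by have := hD.two_le; omega)
  have h1 : 2 * c < Nat.card G := by omega
  have h2 : 2 * (Nat.card G * (t - 1)) < Nat.card G * t := by
    rw [← hc, ← mul_assoc]
    exact Nat.mul_lt_mul_of_pos_right h1 (by omega)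
  rw [mul_left_comm] at h2
  have := Nat.lt_of_mul_lt_mul_left h2
  omega

/-- All irrational tori are conjugate. -/
theorem ell_eq_conjs {g : G} (hg1 : g ≠ 1) {a b : X} (hab : a ≠ b) (hga : g • a = a)
    (hgb : g • b = b) (hna : ¬ IsRat p G a) :
    ell p G X = {k | ∃ h, ∃ t ∈ (ptw (G := G) a b : Set G) \ {1}, k = h * t * h⁻¹} := by
  obtain ⟨hsub, hc⟩ := conjs_torus hD hg1 hab hga hgb hna
  refine Set.Subset.antisymm (fun k hk => ?_) hsub
  by_contra hkn
  have hk1 := hk.1
  have hkp : orderOf k ≠ p := fun e => by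
    obtain ⟨z, hz⟩ := hD.two.exists_fixed hk1
    exact hk.2 z ⟨k, e, hz⟩ hz
  obtain ⟨a', b', hab', hf⟩ := hD.two.exists_pair hk1 hkp
  have hka : k • a' = a' := (hf.symm ▸ Or.inl rfl : a' ∈ fixedBy X k)
  have hkb : k • b' = b' := (hf.symm ▸ Or.inr rfl : b' ∈ fixedBy X k)
  have hna' : ¬ IsRat p G a' := fun h => hk.2 a' h hka
  obtain ⟨hsub', hc'⟩ := conjs_torus hD hk1 hab' hka hkb hna'
  obtain ⟨s, hs1, hs2⟩ := swap_irrat hD hg1 hab hga hgb hna
  obtain ⟨s', hs1', hs2'⟩ := swap_irrat hD hk1 hab' hka hkb hna'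
  rw [natCard_pairStab_of_swap hab hs1 hs2] at hc
  rw [natCard_pairStab_of_swap hab' hs1' hs2'] at hc'
  set S := {k | ∃ h, ∃ t ∈ (ptw (G := G) a b : Set G) \ {1}, k = h * t * h⁻¹} with hS
  set S' := {k | ∃ h, ∃ t ∈ (ptw (G := G) a' b' : Set G) \ {1}, k = h * t * h⁻¹} with hS'
  have hdis : Disjoint S S' := by
    refine Set.disjoint_left.2 ?_
    rintro _ ⟨h, t, ⟨ht, ht1⟩, rfl⟩ ⟨h', t', ⟨ht', ht1'⟩, e⟩
    -- carry the second pair to the first
    obtain ⟨t1, t2⟩ := mem_ptw.1 ht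
    obtain ⟨t1', t2'⟩ := mem_ptw.1 ht'
    have e' : t = (h⁻¹ * h') * t' * (h⁻¹ * h')⁻¹ := by
      calc t = h⁻¹ * (h * t * h⁻¹) * h := by group
        _ = h⁻¹ * (h' * t' * h'⁻¹) * h := by rw [e]
        _ = (h⁻¹ * h') * t' * (h⁻¹ * h')⁻¹ := by group
    set w := h⁻¹ * h'
    have hw : ∀ c : X, t' • c = c → w • c = a ∨ w • c = b := fun c hc => by
      refine mem_of_fix hD.two ht1 hab t1 t2 ?_
      rw [e', mul_smul, inv_smul_smul, mul_smul, hc]
    refine hkn ⟨w⁻¹, w * k * w⁻¹, ⟨mem_ptw.2 ?_, fun e'' => hk1 (conj_eq_one_iff.1 e'')⟩, by group⟩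
    have hcases : ∀ c : X, k • c = c → (w * k * w⁻¹) • (w • c) = w • c := fun c hc => by
      rw [mul_smul, mul_smul, inv_smul_smul, hc]
    rcases hw a' t1' with h1 | h1 <;> rcases hw b' t2' with h2 | h2
    · exact absurd (smul_left_cancel w (h1.trans h2.symm)) hab'
    · exact ⟨h1 ▸ hcases a' hka, h2 ▸ hcases b' hkb⟩
    · exact ⟨h2 ▸ hcases b' hkb, h1 ▸ hcases a' hka⟩
    · exact absurd (smul_left_cancel w (h1.trans h2.symm)) hab'
  have hle := Set.ncard_le_ncard (Set.union_subset hsub hsub') (Set.toFinite _)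
  rw [Set.ncard_union_eq hdis] at hle
  have ht := two_le_ptw hD hg1 hga hgb
  have ht' := two_le_ptw hD hk1 hka hkb
  set t := Nat.card (ptw (G := G) a b)
  set t' := Nat.card (ptw (G := G) a' b')
  have hq : 0 < q * (q - 1) := Nat.mul_pos (by have := hD.two_le; omega) (by have := hD.two_le; omega)
  have hN := two_mul_ncard_ell hD
  have h1 : Nat.card G ≤ 4 * S.ncard := by
    refine Nat.le_of_mul_le_mul_right ?_ (show 0 < t by omega)
    calc Nat.card G * t ≤ Nat.card G * (2 * (t - 1)) := Nat.mul_le_mul_left _ (by omega)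
      _ = 4 * S.ncard * t := by rw [mul_left_comm, ← hc]; ring
  have h2 : Nat.card G ≤ 4 * S'.ncard := by
    refine Nat.le_of_mul_le_mul_right ?_ (show 0 < t' by omega)
    calc Nat.card G * t' ≤ Nat.card G * (2 * (t' - 1)) := Nat.mul_le_mul_left _ (by omega)
      _ = 4 * S'.ncard * t' := by rw [mul_left_comm, ← hc']; ring
  omega

theorem natCard_ptw_irrat {g : G} (hg1 : g ≠ 1) {a b : X} (hab : a ≠ b) (hga : g • a = a)
    (hgb : g • b = b) (hna : ¬ IsRat p G a) : d * Nat.card (ptw (G := G) a b) = q + 1 := by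
  obtain ⟨s, hs1, hs2⟩ := swap_irrat hD hg1 hab hga hgb hna
  obtain ⟨-, hc⟩ := conjs_torus hD hg1 hab hga hgb hna
  rw [← ell_eq_conjs hD hg1 hab hga hgb hna, natCard_pairStab_of_swap hab hs1 hs2,
    ← mul_assoc, mul_comm (ell p G X).ncard 2] at hc
  have hN := two_mul_ncard_ell hD
  have ht := two_le_ptw hD hg1 hga hgb
  obtain ⟨t, ht'⟩ : ∃ t, Nat.card (ptw (G := G) a b) = t + 1 := ⟨_, (Nat.succ_pred_eq_of_pos (by omega)).symm⟩
  rw [ht'] at hc ⊢
  rw [Nat.add_sub_cancel] at hc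
  have hG : Nat.card G = q * (q - 1) * (t + 1) := by
    have h3 : Nat.card G * (t + 1) = Nat.card G * t + q * (q - 1) * (t + 1) := by
      rw [← hc, ← add_mul, hN]
    rw [mul_add, mul_one] at h3
    omega
  have h := hD.card
  rw [hG, ← mul_assoc] at h
  refine Nat.eq_of_mul_eq_mul_left
    (show 0 < q * (q - 1) from Nat.mul_pos (by have := hD.two_le; omega) (by have := hD.two_le; omega)) ?_
  rw [mul_assoc q (q - 1) (q + 1), ← h]
  ring

/-- Every pair fixed by a semisimple element can be swapped. -/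
theorem exists_swap {g : G} (hg1 : g ≠ 1) {a b : X} (hab : a ≠ b) (hga : g • a = a)
    (hgb : g • b = b) : ∃ s : G, s • a = b ∧ s • b = a := by
  by_cases ha : IsRat p G a
  · exact exists_smul_rat hD ha ((rat_iff hD hg1 hab hga hgb).1 ha)
      ((rat_iff hD hg1 hab hga hgb).1 ha) ha hab hab.symm
  · exact swap_irrat hD hg1 hab hga hgb ha

theorem natCard_pairStab {g : G} (hg1 : g ≠ 1) {a b : X} (hab : a ≠ b) (hga : g • a = a)
    (hgb : g • b = b) : Nat.card (pairStab (G := G) a b) = 2 * Nat.card (ptw (G := G) a b) := by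
  obtain ⟨s, h1, h2⟩ := exists_swap hD hg1 hab hga hgb
  exact natCard_pairStab_of_swap hab h1 h2

end Cfsg.Agent.Forms.SolubilizerPSL2
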