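import Mathlib
import Cfsg.Agent.Lib.Forms.SolubilizerPSL2.Tori

/-!
# Solubilizers of semisimple elements and, in even characteristic, of involutions
-/

set_option autoImplicit false
set_option linter.unusedSectionVars false

namespace Cfsg.Agent.Forms.SolubilizerPSL2

open MulAction
open Cfsg.Agent.Forms.DicksonBasic

variable {p : ℕ} {G : Type*} {X : Type*} [Group G] [MulAction G X] [Finite G]
  [hp : Fact p.Prime] {q d : ℕ} (hD : Data p G X q d)

include hD

theorem dvd_q : p ∣ q := by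
  obtain ⟨z, g, hg, hgz⟩ := hD.exists_rat
  rw [← hD.natCard_pSub z ⟨g, hg, hgz⟩]
  have h := orderOf_dvd_natCard (⟨g, hgz, hg ▸ pow_orderOf_eq_one g⟩ : hD.two.pSub z)
  rw [← Subgroup.orderOf_coe] at h
  exact hg ▸ h

theorem orderOf_ne_p {x : G} (h : orderOf x ∣ q - 1 ∨ orderOf x ∣ q + 1) : orderOf x ≠ p := by
  intro e
  rw [e] at h
  have hq := dvd_q hD
  have h1 : p ∣ 1 := by
    rcases h with h | h
    · have h2 := Nat.dvd_sub hq h
      rwa [show q - (q - 1) = 1 by have := hD.two_le; omega] at h2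
    · exact (Nat.dvd_add_right hq).1 h
  exact hp.out.not_dvd_one h1

theorem mem_sol_of_fix {x y : G} {z : X} (hx : x • z = z) (hy : y • z = z) : y ∈ sol x :=
  hD.solvable _ z fun h hh => by
    have hle : Subgroup.closure ({x, y} : Set G) ≤ stabilizer G z := by
      rw [Subgroup.closure_le]
      rintro w (rfl | rfl)
      exacts [hx, hy]
    exact hle hh

theorem mem_sol_of_pairStab {x y : G} {a b : X} (hab : a ≠ b) (hx : x ∈ pairStab a b)
    (hy : y ∈ pairStab a b) : y ∈ sol x :=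
  isSolvable_le (isSolvable_pairStab hD.two hab) <| by
    rw [Subgroup.closure_le]
    rintro w (rfl | rfl)
    exacts [hx, hy]

theorem sol_cases {x y : G} (hx1 : x ≠ 1) (hy : y ∈ sol x) :
    (∃ z : X, x • z = z ∧ y • z = z) ∨
      (∃ a b : X, a ≠ b ∧ x ∈ pairStab a b ∧ y ∈ pairStab a b) ∨
      (p ≠ 2 ∧ ∃ V : Subgroup G, IsKleinFour V ∧ x ∈ Subgroup.normalizer (V : Set G) ∧
        y ∈ Subgroup.normalizer (V : Set G)) := by
  set H := Subgroup.closure ({x, y} : Set G)
  have hxH : x ∈ H := Subgroup.subset_closure (Set.mem_insert _ _)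
  have hyH : y ∈ H := Subgroup.subset_closure (Set.mem_insert_of_mem _ rfl)
  have hne : H ≠ ⊥ := fun e => hx1 (Subgroup.mem_bot.1 (e ▸ hxH))
  rcases solvable_cases hD.two hy hne with ⟨z, hz⟩ | ⟨a, b, hab, h⟩ | ⟨h2, V, hV, -, h⟩
  · exact Or.inl ⟨z, hz x hxH, hz y hyH⟩
  · exact Or.inr (Or.inl ⟨a, b, hab, h hxH, h hyH⟩)
  · exact Or.inr (Or.inr ⟨h2, V, hV, h hxH, h hyH⟩)

theorem fix_of_mem_pairStab {x : G} (hx2 : x * x ≠ 1) {a b : X} (hab : a ≠ b)
    (hx : x ∈ pairStab a b) : x • a = a ∧ x • b = b :=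
  hx.resolve_right fun h => hx2 (swap_sq hD.two hab h.1 h.2)

/-- The solubilizer of a semisimple element that is not an involution. -/
theorem sol_semisimple {x : G} (hx2 : x * x ≠ 1) {a b : X} (hab : a ≠ b)
    (ha : x • a = a) (hb : x • b = b)
    (hno : p ≠ 2 → ∀ V : Subgroup G, IsKleinFour V → x ∉ Subgroup.normalizer (V : Set G)) :
    sol x = (stabilizer G a : Set G) ∪ stabilizer G b ∪ pairStab (G := G) a b := by
  have hx1 : x ≠ 1 := fun e => hx2 (by rw [e, mul_one])
  ext y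
  constructor
  · intro hy
    rcases sol_cases hD hx1 hy with ⟨z, hxz, hyz⟩ | ⟨u, v, huv, hxu, hyu⟩ | ⟨h2, V, hV, hxV, -⟩
    · rcases mem_of_fix hD.two hx1 hab ha hb hxz with rfl | rfl
      · exact Or.inl (Or.inl hyz)
      · exact Or.inl (Or.inr hyz)
    · obtain ⟨xu, xv⟩ := fix_of_mem_pairStab hD hx2 huv hxu
      refine Or.inr ?_
      rcases mem_of_fix hD.two hx1 hab ha hb xu with rfl | rfl <;>
        rcases mem_of_fix hD.two hx1 hab ha hb xv with rfl | rfl
      · exact absurd rfl huv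
      · exact hyu
      · exact Or.elim hyu (fun h => Or.inl h.symm) (fun h => Or.inr h.symm)
      · exact absurd rfl huv
    · exact absurd hxV (hno h2 V hV)
  · rintro ((h | h) | h)
    · exact mem_sol_of_fix hD ha h
    · exact mem_sol_of_fix hD hb h
    · exact mem_sol_of_pairStab hD hab (Or.inl ⟨ha, hb⟩) h

theorem ncard_sol_semisimple {x : G} (hx2 : x * x ≠ 1) {a b : X} (hab : a ≠ b)
    (ha : x • a = a) (hb : x • b = b)
    (hno : p ≠ 2 → ∀ V : Subgroup G, IsKleinFour V → x ∉ Subgroup.normalizer (V : Set G)) :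
    (IsRat p G a → d * (sol x).ncard = 2 * (q * (q - 1))) ∧
      (¬ IsRat p G a → d * (sol x).ncard = 2 * (q + 1)) := by
  have hx1 : x ≠ 1 := fun e => hx2 (by rw [e, mul_one])
  rw [sol_semisimple hD hx2 hab ha hb hno]
  set A := stabilizer G a
  set B := stabilizer G b
  set M := pairStab (G := G) a b
  set T := ptw (G := G) a b with hT
  have hAB : (A : Set G) ∩ B = T := rfl
  have hUM : ((A : Set G) ∪ B) ∩ M = T := by
    ext y
    simp only [Set.mem_inter_iff, Set.mem_union, SetLike.mem_coe]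
    refine ⟨?_, fun h => ⟨Or.inl h.1, ptw_le_pairStab a b h⟩⟩
    rintro ⟨h, hy⟩
    refine mem_ptw.2 (hy.resolve_right fun h' => ?_)
    rcases h with h | h
    · exact hab ((show y • a = a from h).symm.trans h'.1)
    · exact hab.symm ((show y • b = b from h).symm.trans h'.2)
  have e1 := Set.ncard_union_add_ncard_inter (A : Set G) B
  have e2 := Set.ncard_union_add_ncard_inter ((A : Set G) ∪ B) M
  rw [hAB] at e1
  rw [hUM] at e2
  have hc : ∀ K : Subgroup G, (K : Set G).ncard = Nat.card K := fun K =>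
    (Nat.card_coe_set_eq _).symm
  rw [hc A, hc B, hc T] at e1
  rw [hc M, hc T, natCard_pairStab hD hx1 hab ha hb, ← hT] at e2
  constructor
  · intro hr
    have hA := natCard_stab hD hr
    have hB := natCard_stab hD ((rat_iff hD hx1 hab ha hb).1 hr)
    have hu : (((A : Set G) ∪ B) ∪ M).ncard = Nat.card A + Nat.card B := by omega
    rw [hu, mul_add, hA, hB, two_mul]
  · intro hr
    have hA : A = T := le_antisymm
      (fun h hh => mem_ptw.2 ⟨hh, fix_of_fix_irrat hD hx1 hab ha hb hr hh⟩) inf_le_left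
    have hB : B = T := le_antisymm (fun h hh => mem_ptw.2
      ⟨fix_of_fix_irrat hD hx1 hab.symm hb ha (fun e => hr ((rat_iff hD hx1 hab ha hb).2 e)) hh, hh⟩)
      inf_le_right
    rw [hA, hB] at e1
    rw [hA, hB] at e2 ⊢
    have hu : (((T : Set G) ∪ T) ∪ M).ncard = 2 * Nat.card T := by omega
    rw [hu, mul_left_comm, natCard_ptw_irrat hD hx1 hab ha hb hr]

theorem orderOf_dvd_ptw {x : G} {a b : X} (ha : x • a = a) (hb : x • b = b) :
    orderOf x ∣ Nat.card (ptw (G := G) a b) := by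
  have h := orderOf_dvd_natCard (⟨x, mem_ptw.2 ⟨ha, hb⟩⟩ : ptw (G := G) a b)
  rwa [Subgroup.orderOf_mk] at h

theorem ncard_sol_split {x : G} (hx2 : x * x ≠ 1) (hdv : orderOf x ∣ q - 1)
    (hno : p ≠ 2 → ∀ V : Subgroup G, IsKleinFour V → x ∉ Subgroup.normalizer (V : Set G)) :
    d * (sol x).ncard = 2 * (q * (q - 1)) := by
  have hx1 : x ≠ 1 := fun e => hx2 (by rw [e, mul_one])
  obtain ⟨a, b, hab, hf⟩ := hD.two.exists_pair hx1 (orderOf_ne_p hD (Or.inl hdv))
  have ha : x • a = a := (hf.symm ▸ Or.inl rfl : a ∈ fixedBy X x)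
  have hb : x • b = b := (hf.symm ▸ Or.inr rfl : b ∈ fixedBy X x)
  refine (ncard_sol_semisimple hD hx2 hab ha hb hno).1 ?_
  by_contra hr
  have h1 : orderOf x ∣ q + 1 :=
    natCard_ptw_irrat hD hx1 hab ha hb hr ▸ (orderOf_dvd_ptw hD ha hb).mul_left d
  have h2 := Nat.dvd_sub h1 hdv
  rw [show q + 1 - (q - 1) = 2 by have := hD.two_le; omega, orderOf_dvd_iff_pow_eq_one, pow_two] at h2
  exact hx2 h2

theorem ncard_sol_nonsplit {x : G} (hx2 : x * x ≠ 1) (hdv : orderOf x ∣ q + 1)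
    (hno : p ≠ 2 → ∀ V : Subgroup G, IsKleinFour V → x ∉ Subgroup.normalizer (V : Set G)) :
    d * (sol x).ncard = 2 * (q + 1) := by
  have hx1 : x ≠ 1 := fun e => hx2 (by rw [e, mul_one])
  obtain ⟨a, b, hab, hf⟩ := hD.two.exists_pair hx1 (orderOf_ne_p hD (Or.inr hdv))
  have ha : x • a = a := (hf.symm ▸ Or.inl rfl : a ∈ fixedBy X x)
  have hb : x • b = b := (hf.symm ▸ Or.inr rfl : b ∈ fixedBy X x)
  refine (ncard_sol_semisimple hD hx2 hab ha hb hno).2 fun hr => ?_
  have h1 : orderOf x ∣ q - 1 :=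
    natCard_ptw_rat hD hr ((rat_iff hD hx1 hab ha hb).1 hr) hab ▸ (orderOf_dvd_ptw hD ha hb).mul_left d
  have h2 := Nat.dvd_sub hdv h1
  rw [show q + 1 - (q - 1) = 2 by have := hD.two_le; omega, orderOf_dvd_iff_pow_eq_one, pow_two] at h2
  exact hx2 h2

/-- The solubilizer of an involution in even characteristic. -/
theorem ncard_sol_even (hp2 : p = 2) (hd : d = 1) {x : G} (hx : orderOf x = 2) :
    (sol x).ncard = 3 * q * (q - 1) := by
  have hxp : orderOf x = p := hx.trans hp2.symm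
  have hxx : x * x = 1 := by rw [← pow_two, ← hx, pow_orderOf_eq_one]
  have hx1 : x ≠ 1 := fun e => by rw [e, orderOf_one] at hx; omega
  have hxi : x⁻¹ = x := inv_eq_of_mul_eq_one_right hxx
  obtain ⟨z, hz⟩ := hD.two.exists_fixed hx1
  have hzr : IsRat p G z := ⟨x, hxp, hz⟩
  set Q := hD.two.pSub z
  have hxQ : x ∈ Q := ⟨hz, hxp ▸ pow_orderOf_eq_one x⟩
  have hinv : ∀ w : G, w * w = 1 → w ≠ 1 → orderOf w = p := fun w h h1 =>
    hp2 ▸ orderOf_eq_prime (by rw [pow_two, h]) h1
  -- the non-involutions inverted by `x`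
  set S : Set G := {w | (x * w) * (x * w) = 1 ∧ w * w ≠ 1}
  set J : Set G := {w | w * w = 1 ∧ w ≠ 1} \ (Q : Set G)
  have hJ : J = (fun w => x * w) '' S := by
    ext j
    constructor
    · rintro ⟨⟨hjj, hj1⟩, hjQ⟩
      refine ⟨x * j, ⟨by rw [← mul_assoc x x j, hxx, one_mul, hjj], fun e => hjQ ?_⟩,
        show x * (x * j) = j by rw [← mul_assoc x x j, hxx, one_mul]⟩
      have hc : Commute j x := by
        show j * x = x * j
        rw [← inv_eq_of_mul_eq_one_right e, mul_inv_rev, hxi, inv_eq_of_mul_eq_one_right hjj]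
      exact hD.two.cent_p hxp hz hc
    · rintro ⟨w, ⟨hw1, hw2⟩, rfl⟩
      have hne : x * w ≠ 1 := fun e => hw2 (by
        rw [← inv_eq_of_mul_eq_one_right e, hxi, hxx])
      refine ⟨⟨hw1, hne⟩, fun h => hw2 ?_⟩
      have hwQ : w ∈ Q := by
        have h' := Q.mul_mem (Q.inv_mem hxQ) h
        rwa [inv_mul_cancel_left] at h'
      have := hwQ.2
      rwa [hp2, pow_two] at this
  -- the pairs exchanged by `x`
  have hpair : ∀ w ∈ S, ∃ a : X, x • a ≠ a ∧ w ∈ pairStab a (x • a) ∧ x * w ∈ pairStab a (x • a) := by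
    rintro w ⟨hw1, hw2⟩
    have hwne : w ≠ 1 := fun e => hw2 (by rw [e, mul_one])
    have hwp : orderOf w ≠ p := fun e => hw2 (by rw [← pow_two, ← hp2, ← e, pow_orderOf_eq_one])
    obtain ⟨a, b, hab, hf⟩ := hD.two.exists_pair hwne hwp
    have ha : w • a = a := (hf.symm ▸ Or.inl rfl : a ∈ fixedBy X w)
    have hb : w • b = b := (hf.symm ▸ Or.inr rfl : b ∈ fixedBy X w)
    have hxw : x * w * x = w⁻¹ := eq_inv_of_mul_eq_one_left (by rw [← hw1]; group)
    have hperm : ∀ c : X, w • c = c → x • c = a ∨ x • c = b := fun c hc => by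
      refine mem_of_fix hD.two hwne hab ha hb ?_
      have h' : (x * w * x) • x • c = x • c := by
        rw [← mul_smul, mul_assoc, hxx, mul_one, mul_smul, hc]
      rw [hxw, inv_smul_eq_iff] at h'
      exact h'.symm
    have hxa : x • a = b := by
      rcases hperm a ha with h | h
      · rcases hperm b hb with h' | h'
        · exact absurd (smul_left_cancel x (h'.trans h.symm)).symm hab
        · exact absurd (hD.two.eq_of_fix hxp h' h) hab
      · exact h
    have hxb : x • b = a := by rw [← hxa, ← mul_smul, hxx, one_smul]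
    refine ⟨a, fun e => hab (e.symm.trans hxa), ?_, ?_⟩
    · rw [hxa]; exact Or.inl ⟨ha, hb⟩
    · rw [hxa]
      exact Or.inr ⟨by rw [mul_smul, ha, hxa], by rw [mul_smul, hb, hxb]⟩
  have hxP : ∀ a : X, x ∈ pairStab (G := G) a (x • a) := fun a =>
    Or.inr ⟨rfl, by rw [← mul_smul, hxx, one_smul]⟩
  have hsol : sol x = (stabilizer G z : Set G) ∪ (S ∪ J) := by
    ext y
    constructor
    · intro hy
      rcases sol_cases hD hx1 hy with ⟨u, hxu, hyu⟩ | ⟨u, v, huv, hxu, hyu⟩ | ⟨h2, -⟩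
      · exact Or.inl (hD.two.eq_of_fix hxp hz hxu ▸ hyu)
      · obtain ⟨x1, x2⟩ := hxu.resolve_left fun h => huv (hD.two.eq_of_fix hxp h.2 h.1)
        by_cases hyz : y • z = z
        · exact Or.inl hyz
        refine Or.inr ?_
        rcases hyu with ⟨y1, y2⟩ | ⟨y1, y2⟩
        · refine Or.inl ⟨swap_sq hD.two huv (by rw [mul_smul, y1, x1]) (by rw [mul_smul, y2, x2]),
            fun e => ?_⟩
          by_cases hy1 : y = 1
          · exact hyz (by rw [hy1, one_smul])
          · exact huv (hD.two.eq_of_fix (hinv y e hy1) y2 y1)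
        · exact Or.inr ⟨⟨swap_sq hD.two huv y1 y2, fun e => huv (by rw [e, one_smul] at y1; exact y1)⟩,
            fun hQ => hyz hQ.1⟩
      · exact absurd hp2 h2
    · rintro (h | h | h)
      · exact mem_sol_of_fix hD hz h
      · obtain ⟨a, ha, hw, -⟩ := hpair y h
        exact mem_sol_of_pairStab hD ha.symm (hxP a) hw
      · obtain ⟨w, hw, rfl⟩ := (hJ ▸ h : y ∈ (fun w => x * w) '' S)
        obtain ⟨a, ha, -, hw'⟩ := hpair w hw
        exact mem_sol_of_pairStab hD ha.symm (hxP a) hw'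
  have hd1 : Disjoint (stabilizer G z : Set G) (S ∪ J) := by
    refine Set.disjoint_left.2 fun y hy h => ?_
    rcases h with h | ⟨⟨hjj, hj1⟩, hjQ⟩
    · obtain ⟨a, ha, hw, -⟩ := hpair y h
      obtain ⟨y1, y2⟩ := fix_of_mem_pairStab hD h.2 ha.symm hw
      rcases mem_of_fix hD.two (fun e => h.2 (by rw [e, mul_one])) ha.symm y1 y2
        (show y • z = z from hy) with e | e
      · exact ha (e ▸ hz)
      · exact ha (by
          have h0 : x • z = x • a := hz.trans e
          rw [← smul_left_cancel x h0, hz])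
    · exact hjQ ⟨hy, by rw [hp2, pow_two, hjj]⟩
  have hd2 : Disjoint S J := Set.disjoint_left.2 fun y hy h => hy.2 h.1.1
  have hI : {w : G | w * w = 1 ∧ w ≠ 1} = {g : G | orderOf g = p} := by
    ext w
    refine ⟨fun h => hinv w h.1 h.2, fun h => ⟨by rw [← pow_two, ← hp2, ← h, pow_orderOf_eq_one],
      fun e => ?_⟩⟩
    rw [Set.mem_setOf_eq, e, orderOf_one] at h
    exact hp.out.one_lt.ne h
  have hQI : {w : G | w * w = 1 ∧ w ≠ 1} ∩ (Q : Set G) = (Q : Set G) \ {1} := by
    ext w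
    refine ⟨fun h => ⟨h.2, h.1.2⟩, fun h => ⟨⟨?_, h.2⟩, h.1⟩⟩
    have := h.1.2
    rwa [hp2, pow_two] at this
  have hJc : J.ncard = q * (q - 1) := by
    have h := Set.ncard_inter_add_ncard_sdiff_eq_ncard {w : G | w * w = 1 ∧ w ≠ 1} (Q : Set G)
      (Set.toFinite _)
    rw [hQI, Set.ncard_sdiff_singleton_of_mem Q.one_mem, hI, ncard_orderOf_p hD,
      ← Nat.card_coe_set_eq, show Nat.card (Q : Set G) = q from hD.natCard_pSub z hzr, add_mul,
      one_mul, ← hI] at h
    show ({w : G | w * w = 1 ∧ w ≠ 1} \ (Q : Set G)).ncard = _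
    omega
  have hs := natCard_stab hD hzr
  rw [hd, one_mul] at hs
  rw [hsol, Set.ncard_union_eq hd1, Set.ncard_union_eq hd2, ← Nat.card_coe_set_eq,
    show Nat.card (stabilizer G z : Set G) = q * (q - 1) from hs]
  have hSJ : J.ncard = S.ncard := by rw [hJ, Set.ncard_image_of_injective _ (mul_right_injective x)]
  rw [← hSJ, hJc, mul_assoc]
  ring

end Cfsg.Agent.Forms.SolubilizerPSL2
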