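import Mathlib
import Cfsg.Agent.Lib.Forms.KleinPSL

/-!
# Four-groups with normaliser of order twelve
-/

set_option autoImplicit false
set_option linter.unusedSectionVars false

namespace Cfsg.Agent.Forms.SolubilizerPSL2

variable {G : Type*} [Group G] [Finite G] {V : Subgroup G}

theorem index_normalizer (hV : IsKleinFour V) (hN : Nat.card (Subgroup.normalizer (V : Set G)) = 12) :
    (V.subgroupOf (Subgroup.normalizer (V : Set G))).index = 3 := by
  have h := (V.subgroupOf (Subgroup.normalizer (V : Set G))).index_mul_card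
  rw [Nat.card_congr (Subgroup.subgroupOfEquivOfLe V.le_normalizer).toEquiv, hV.card_four, hN] at h
  omega

theorem pow_three_mem (hV : IsKleinFour V) (hN : Nat.card (Subgroup.normalizer (V : Set G)) = 12)
    {g : G} (hg : g ∈ Subgroup.normalizer (V : Set G)) : g ^ 3 ∈ V := by
  haveI : (V.subgroupOf (Subgroup.normalizer (V : Set G))).Normal := Subgroup.normal_in_normalizer
  have h := (V.subgroupOf (Subgroup.normalizer (V : Set G))).pow_index_mem ⟨g, hg⟩
  rw [index_normalizer hV hN, Subgroup.mem_subgroupOf] at h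
  exact h

theorem mem_of_sq_eq_one (hV : IsKleinFour V) (hN : Nat.card (Subgroup.normalizer (V : Set G)) = 12)
    {g : G} (hg : g ∈ Subgroup.normalizer (V : Set G)) (h : g * g = 1) : g ∈ V := by
  have h3 := pow_three_mem hV hN hg
  rwa [pow_succ, pow_two, h, one_mul] at h3

theorem sq_eq_one_of_mem (hV : IsKleinFour V) {g : G} (hg : g ∈ V) : g * g = 1 :=
  congrArg Subtype.val (IsKleinFour.mul_self (⟨g, hg⟩ : V))

theorem orderOf_of_notMem (hV : IsKleinFour V) (hN : Nat.card (Subgroup.normalizer (V : Set G)) = 12)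
    {g : G} (hg : g ∈ Subgroup.normalizer (V : Set G)) (hgV : g ∉ V) (h6 : orderOf g ≠ 6) :
    orderOf g = 3 := by
  have h := sq_eq_one_of_mem hV (pow_three_mem hV hN hg)
  rw [← pow_add] at h
  have hd : orderOf g ∣ 6 := orderOf_dvd_of_pow_eq_one h
  have hn : ¬ orderOf g ∣ 2 := fun h2 => hgV (mem_of_sq_eq_one hV hN hg (by
    rw [← pow_two]; exact orderOf_dvd_iff_pow_eq_one.1 h2))
  have hle := Nat.le_of_dvd (by norm_num) hd
  have hpos := orderOf_pos g
  generalize orderOf g = n at *
  interval_cases n <;> simp_all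

theorem isSolvable_normalizer (hV : IsKleinFour V)
    (hN : Nat.card (Subgroup.normalizer (V : Set G)) = 12) :
    Group.IsSolvable (Subgroup.normalizer (V : Set G)) := by
  set N := Subgroup.normalizer (V : Set G)
  haveI : (V.subgroupOf N).Normal := Subgroup.normal_in_normalizer
  haveI : Group.IsSolvable (V.subgroupOf N) := Group.isSolvable_of_comm fun a b =>
    Subtype.ext (Subtype.ext (KleinPSL.kleinFour_mem (a := ((a : N) : G)) (b := ((b : N) : G)) V
      (Subgroup.mem_subgroupOf.1 a.2) (Subgroup.mem_subgroupOf.1 b.2)).1.eq)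
  haveI : Fact (Nat.Prime 3) := ⟨Nat.prime_three⟩
  haveI : IsCyclic (N ⧸ V.subgroupOf N) :=
    isCyclic_of_prime_card (p := 3) (index_normalizer hV hN)
  letI := IsCyclic.commGroup (α := N ⧸ V.subgroupOf N)
  refine Group.isSolvable_of_ker_le_range (V.subgroupOf N).subtype
    (QuotientGroup.mk' (V.subgroupOf N)) ?_
  rw [QuotientGroup.ker_mk', Subgroup.range_subtype]

theorem eq_of_generators {W : Subgroup G} (hV : IsKleinFour V) (hW : IsKleinFour W) {a b : G}
    (ha : a ∈ V) (hb : b ∈ V) (ha' : a ∈ W) (hb' : b ∈ W) (ha1 : a ≠ 1) (hb1 : b ≠ 1)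
    (hab : a ≠ b) : V = W := by
  haveI := hV
  haveI := hW
  ext z
  rw [KleinPSL.kleinFour_ext V ha hb ha1 hb1 hab, KleinPSL.kleinFour_ext W ha' hb' ha1 hb1 hab]

theorem eq_of_normalizer_le {W : Subgroup G} (hV : IsKleinFour V) (hW : IsKleinFour W)
    (hN : Nat.card (Subgroup.normalizer (V : Set G)) = 12)
    (h : W ≤ Subgroup.normalizer (V : Set G)) : V = W := by
  refine (Subgroup.eq_of_le_of_card_ge (fun w hw => ?_) ?_).symm
  · exact mem_of_sq_eq_one hV hN (h hw) (sq_eq_one_of_mem hW hw)
  · rw [hV.card_four, hW.card_four]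

end Cfsg.Agent.Forms.SolubilizerPSL2
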