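import Mathlib
import Cfsg.Agent.Lib.Forms.SolubilizerPSL2.Count
import Cfsg.Agent.Lib.Forms.SolubilizerPSL2.Klein

/-!
# Solubilizers in characteristic three
-/

set_option autoImplicit false
set_option linter.unusedSectionVars false

namespace Cfsg.Agent.Forms.SolubilizerPSL2

open MulAction
open Cfsg.Agent.Forms.DicksonBasic

/-- The four-groups normalised by an element. -/
def kleinNorm {G : Type*} [Group G] (y : G) : Set (Subgroup G) :=
  {V | IsKleinFour V ∧ y ∈ Subgroup.normalizer (V : Set G)}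

variable {G : Type*} {X : Type*} [Group G] [MulAction G X] [Finite G]
  [Fact (Nat.Prime 3)] {q : ℕ} (hD : Data 3 G X q 2) (hq8 : q % 8 = 3)
  (hN : ∀ V : Subgroup G, IsKleinFour V → Nat.card (Subgroup.normalizer (V : Set G)) = 12)
  (hK : 12 * Nat.card {V : Subgroup G // IsKleinFour V} = Nat.card G)

include hD

theorem orderOf_ne_six (g : G) : orderOf g ≠ 6 := fun h => by
  have := hD.two.orderOf_eq (g := g) (by rw [h]; norm_num)
  omega

include hN in
theorem norm_cases {V : Subgroup G} (hV : IsKleinFour V) {g : G}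
    (hg : g ∈ Subgroup.normalizer (V : Set G)) : g ∈ V ∨ orderOf g = 3 := by
  by_cases h : g ∈ V
  · exact Or.inl h
  · exact Or.inr (orderOf_of_notMem hV (hN V hV) hg h (orderOf_ne_six hD g))

include hN in
/-- Elements of order neither two nor three normalise no four-group. -/
theorem notMem_normalizer {x : G} (hx2 : x * x ≠ 1) (hx3 : orderOf x ≠ 3) :
    3 ≠ 2 → ∀ V : Subgroup G, IsKleinFour V → x ∉ Subgroup.normalizer (V : Set G) :=
  fun _ V hV h => (norm_cases hD hN hV h).elim (fun h' => hx2 (sq_eq_one_of_mem hV h')) hx3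

include hq8 in
theorem irrat_of_invol {x : G} (hxx : x * x = 1) (hx1 : x ≠ 1) {c : X} (hc : x • c = c) :
    ¬ IsRat 3 G c := fun hr => by
  have h2 : orderOf x = 2 := orderOf_eq_prime (by rw [pow_two, hxx]) hx1
  obtain ⟨b, hbc, hb, hxb⟩ := exists_rat_pair hD hx1 (by omega) hr hc
  have ht := natCard_ptw_rat hD hr hb hbc.symm
  obtain ⟨t, ht'⟩ := h2 ▸ orderOf_dvd_ptw hD hc hxb
  omega

omit hD in
theorem ne_three_of_sq {x : G} (hxx : x * x = 1) : orderOf x ≠ 3 := fun h => by
  have h1 : orderOf x ∣ 2 := orderOf_dvd_of_pow_eq_one (by rw [pow_two, hxx])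
  rw [h] at h1
  omega

/-- A torus has at most one involution. -/
theorem invol_unique {a b : X} (hab : a ≠ b) {u w : G} (hu : u ∈ ptw a b) (hw : w ∈ ptw a b)
    (huu : u * u = 1) (hww : w * w = 1) (hu1 : u ≠ 1) (hw1 : w ≠ 1) : w = u := by
  classical
  haveI := isCyclic_ptw hD.two hab
  haveI := Fintype.ofFinite (ptw (G := G) a b)
  have hc : Finset.card (Finset.univ.filter fun z : ptw (G := G) a b => z ^ 2 = 1) ≤ 2 :=
    IsCyclic.card_pow_eq_one_le (by norm_num)
  by_contra hne
  let U : ptw (G := G) a b := ⟨u, hu⟩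
  let W : ptw (G := G) a b := ⟨w, hw⟩
  have hsub : ({1, U, W} : Finset (ptw (G := G) a b)) ⊆
      Finset.univ.filter fun z : ptw (G := G) a b => z ^ 2 = 1 := by
    intro z hz
    simp only [Finset.mem_insert, Finset.mem_singleton] at hz
    rcases hz with rfl | rfl | rfl <;> refine Finset.mem_filter.2 ⟨Finset.mem_univ _, ?_⟩
    · simp
    · exact Subtype.ext (by simpa [pow_two] using huu)
    · exact Subtype.ext (by simpa [pow_two] using hww)
  have h3 := (Finset.card_le_card hsub).trans hc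
  rw [Finset.card_insert_of_notMem, Finset.card_insert_of_notMem, Finset.card_singleton] at h3
  · omega
  · simp only [Finset.mem_singleton]
    exact fun e' => hne (congrArg Subtype.val e').symm
  · simp only [Finset.mem_insert, Finset.mem_singleton, not_or]
    exact ⟨fun e' => hu1 (congrArg Subtype.val e').symm, fun e' => hw1 (congrArg Subtype.val e').symm⟩

include hq8 in
theorem ncard_invol {x : G} (hxx : x * x = 1) (hx1 : x ≠ 1) :
    2 * {w : G | w * w = 1 ∧ w ≠ 1}.ncard = q * (q - 1) := by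
  obtain ⟨a, b, hab, hf⟩ := hD.two.exists_pair hx1 (ne_three_of_sq hxx)
  have ha : x • a = a := (hf.symm ▸ Or.inl rfl : a ∈ fixedBy X x)
  have hb : x • b = b := (hf.symm ▸ Or.inr rfl : b ∈ fixedBy X x)
  have hna := irrat_of_invol hD hq8 hxx hx1 ha
  have hconj : {g : G | ∃ k, ∃ s ∈ ({x} : Set G), g = k * s * k⁻¹} = {w | w * w = 1 ∧ w ≠ 1} := by
    ext w
    constructor
    · rintro ⟨k, s, rfl, rfl⟩
      refine ⟨?_, fun e => hx1 (conj_eq_one_iff.1 e)⟩
      calc k * s * k⁻¹ * (k * s * k⁻¹) = k * (s * s) * k⁻¹ := by group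
        _ = 1 := by rw [hxx]; group
    · rintro ⟨hww, hw1⟩
      have hwe : w ∈ ell 3 G X := ⟨hw1, fun z hz e => irrat_of_invol hD hq8 hww hw1 e hz⟩
      rw [ell_eq_conjs hD hx1 hab ha hb hna] at hwe
      obtain ⟨k, t, ⟨ht, ht1⟩, rfl⟩ := hwe
      have htt : t * t = 1 := by
        have h' : k * (t * t) * k⁻¹ = 1 := by rw [← hww]; group
        exact conj_eq_one_iff.1 h'
      exact ⟨k, x, rfl, by rw [invol_unique hD hab (mem_ptw.2 ⟨ha, hb⟩) ht hxx htt hx1 ht1]⟩
  have h := ncard_conjs ({x} : Set G) (pairStab a b) (by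
    rintro k _ rfl
    rw [Set.mem_singleton_iff]
    constructor
    · intro h
      exact commute_fix hD.two hx1 hab ha hb (show _ * k = k * _ by
        nth_rewrite 1 [← h]; group)
    · rintro (⟨k1, k2⟩ | ⟨k1, k2⟩)
      · rw [(ptw_comm hD.two hab (mem_ptw.2 ⟨k1, k2⟩) (mem_ptw.2 ⟨ha, hb⟩)).eq, mul_inv_cancel_right]
      · rw [swap_inverts hD.two hab k1 k2 ha hb]
        exact inv_eq_of_mul_eq_one_right hxx)
  rw [hconj, Set.ncard_singleton, mul_one, natCard_pairStab hD hx1 hab ha hb,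
    natCard_ptw_irrat hD hx1 hab ha hb hna] at h
  refine Nat.eq_of_mul_eq_mul_left (show 0 < q + 1 by omega) ?_
  have hc := hD.card
  calc (q + 1) * (2 * {w : G | w * w = 1 ∧ w ≠ 1}.ncard)
      = 2 * Nat.card G := by rw [← h]; ring
    _ = (q + 1) * (q * (q - 1)) := by rw [hc]; ring

include hq8 hN in
/-- The solubilizer of an involution. -/
theorem ncard_sol_invol {x : G} (hx : orderOf x = 2) : (sol x).ncard = q * (q + 1) := by
  classical
  have hxx : x * x = 1 := KleinPSL.mul_self_of_order_two hx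
  have hx1 : x ≠ 1 := KleinPSL.ne_one_of_order_two hx
  have hxi : x⁻¹ = x := inv_eq_of_mul_eq_one_right hxx
  obtain ⟨a, b, hab, hf⟩ := hD.two.exists_pair hx1 (by omega)
  have ha : x • a = a := (hf.symm ▸ Or.inl rfl : a ∈ fixedBy X x)
  have hb : x • b = b := (hf.symm ▸ Or.inr rfl : b ∈ fixedBy X x)
  have hna := irrat_of_invol hD hq8 hxx hx1 ha
  have hnb := irrat_of_invol hD hq8 hxx hx1 hb
  set M := pairStab (G := G) a b with hM
  set T := ptw (G := G) a b with hT
  have hTM : T ≤ M := ptw_le_pairStab a b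
  have hxT : x ∈ T := mem_ptw.2 ⟨ha, hb⟩
  have ht : 2 * Nat.card T = q + 1 := natCard_ptw_irrat hD hx1 hab ha hb hna
  have hMc : Nat.card M = 2 * Nat.card T := natCard_pairStab hD hx1 hab ha hb
  have hMcomm : ∀ y ∈ M, Commute x y := by
    rintro y (⟨y1, y2⟩ | ⟨y1, y2⟩)
    · exact ptw_comm hD.two hab hxT (mem_ptw.2 ⟨y1, y2⟩)
    · have h := swap_inverts hD.two hab y1 y2 ha hb
      rw [hxi, mul_inv_eq_iff_eq_mul] at h
      exact h.symm
  have hnswap : ∀ y ∈ M, y ∉ T → y • a = b ∧ y • b = a := fun y hy hyT =>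
    hy.resolve_left fun h => hyT (mem_ptw.2 h)
  -- an element of order three inverted by `x`
  have hno3 : ∀ y : G, (x * y) * (x * y) = 1 → orderOf y ≠ 3 := by
    intro y hy h3
    have hy1 : y ≠ 1 := fun e => by rw [e, orderOf_one] at h3; omega
    obtain ⟨c, hc⟩ := hD.two.exists_fixed hy1
    refine irrat_of_invol hD hq8 hxx hx1 ?_ ⟨y, h3, hc⟩
    refine hD.two.eq_of_fix h3 hc ?_
    have hxy : x * y * x = y⁻¹ := eq_inv_of_mul_eq_one_left (by rw [← hy]; group)
    have h' : (x * y * x) • x • c = x • c := by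
      rw [← mul_smul, mul_assoc, hxx, mul_one, mul_smul, hc]
    rw [hxy, inv_smul_eq_iff] at h'
    exact h'.symm
  set W : Set G := {w | (x * w) * (x * w) = 1} with hWdef
  set J : Set G := {w | w * w = 1} with hJdef
  set K : Set G := (M : Set G) ∩ J with hKdef
  set A : Set G := {y | orderOf y = 3 ∧ ∃ V : Subgroup G, IsKleinFour V ∧ x ∈ V ∧
    y ∈ Subgroup.normalizer (V : Set G)} with hAdef
  have hMW : (M : Set G) ∩ W = K := by
    ext y
    refine and_congr_right fun hy => ?_
    show (x * y) * (x * y) = 1 ↔ y * y = 1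
    rw [(hMcomm y hy).symm.mul_mul_mul_comm, hxx, one_mul]
  have hWJ : W ∩ J ⊆ (M : Set G) := by
    rintro y ⟨(h1 : (x * y) * (x * y) = 1), (h2 : y * y = 1)⟩
    refine commute_fix hD.two hx1 hab ha hb (show x * y = y * x from ?_)
    rw [← inv_eq_of_mul_eq_one_right h1, mul_inv_rev, inv_eq_of_mul_eq_one_right h2, hxi]
  have hWimg : W = (fun w => x * w) '' J := by
    ext w
    refine ⟨fun h => ⟨x * w, h, show x * (x * w) = w by rw [← mul_assoc, hxx, one_mul]⟩, ?_⟩
    rintro ⟨j, (hj : j * j = 1), rfl⟩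
    show (x * (x * j)) * (x * (x * j)) = 1
    rw [← mul_assoc x x j, hxx, one_mul, hj]
  have hwsol : ∀ w ∈ W, w ∈ sol x ∧ x * w ∈ sol x := by
    intro w (hw : (x * w) * (x * w) = 1)
    by_cases hw2 : w * w = 1
    · have hwM : w ∈ M := hWJ ⟨hw, hw2⟩
      exact ⟨mem_sol_of_pairStab hD hab (hTM hxT) hwM,
        mem_sol_of_pairStab hD hab (hTM hxT) (M.mul_mem (hTM hxT) hwM)⟩
    have hwne : w ≠ 1 := fun e => hw2 (by rw [e, mul_one])
    obtain ⟨c, e, hce, hfw⟩ := hD.two.exists_pair hwne (hno3 w hw)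
    have hc : w • c = c := (hfw.symm ▸ Or.inl rfl : c ∈ fixedBy X w)
    have he : w • e = e := (hfw.symm ▸ Or.inr rfl : e ∈ fixedBy X w)
    have hxw : x * w * x = w⁻¹ := eq_inv_of_mul_eq_one_left (by rw [← hw]; group)
    have hperm : ∀ u : X, w • u = u → x • u = c ∨ x • u = e := fun u hu => by
      refine mem_of_fix hD.two hwne hce hc he ?_
      have h' : (x * w * x) • x • u = x • u := by
        rw [← mul_smul, mul_assoc, hxx, mul_one, mul_smul, hu]
      rw [hxw, inv_smul_eq_iff] at h'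
      exact h'.symm
    have hsw : x • c = e ∧ x • e = c := by
      rcases hperm c hc with h1 | h1 <;> rcases hperm e he with h2 | h2
      · exact absurd (smul_left_cancel x (h1.trans h2.symm)) hce
      · exfalso
        refine hw2 ?_
        have h4 : Commute x w := ptw_comm hD.two hce (mem_ptw.2 ⟨h1, h2⟩) (mem_ptw.2 ⟨hc, he⟩)
        rwa [h4.symm.mul_mul_mul_comm, hxx, one_mul] at hw
      · exact ⟨h1, h2⟩
      · exact absurd (smul_left_cancel x (h1.trans h2.symm)) hce
    exact ⟨mem_sol_of_pairStab hD hce (Or.inr hsw) (Or.inl ⟨hc, he⟩),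
      mem_sol_of_pairStab hD hce (Or.inr hsw)
        (Or.inr ⟨by rw [mul_smul, hc, hsw.1], by rw [mul_smul, he, hsw.2]⟩)⟩
  have hsol : sol x = (((M : Set G) ∪ W) ∪ J) ∪ A := by
    ext y
    constructor
    · intro hy
      rcases sol_cases hD hx1 hy with ⟨z, hxz, hyz⟩ | ⟨u, v, huv, hxu, hyu⟩ | ⟨-, V, hV, hxV, hyV⟩
      · refine Or.inl (Or.inl (Or.inl (hTM ?_)))
        rcases mem_of_fix hD.two hx1 hab ha hb hxz with rfl | rfl
        · exact mem_ptw.2 ⟨hyz, fix_of_fix_irrat hD hx1 hab ha hb hna hyz⟩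
        · exact mem_ptw.2 ⟨fix_of_fix_irrat hD hx1 hab.symm hb ha hnb hyz, hyz⟩
      · refine Or.inl ?_
        rcases hxu with ⟨x1, x2⟩ | ⟨x1, x2⟩
        · refine Or.inl (Or.inl ?_)
          rcases mem_of_fix hD.two hx1 hab ha hb x1 with rfl | rfl <;>
            rcases mem_of_fix hD.two hx1 hab ha hb x2 with rfl | rfl
          · exact absurd rfl huv
          · exact hyu
          · exact Or.elim hyu (fun h => Or.inl h.symm) (fun h => Or.inr h.symm)
          · exact absurd rfl huv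
        · rcases hyu with ⟨y1, y2⟩ | ⟨y1, y2⟩
          · refine Or.inl (Or.inr ?_)
            exact swap_sq hD.two huv (by rw [mul_smul, y1, x1]) (by rw [mul_smul, y2, x2])
          · exact Or.inr (swap_sq hD.two huv y1 y2)
      · have hxV' := mem_of_sq_eq_one hV (hN V hV) hxV hxx
        rcases norm_cases hD hN hV hyV with h | h
        · exact Or.inl (Or.inr (sq_eq_one_of_mem hV h))
        · exact Or.inr ⟨h, V, hV, hxV', hyV⟩
    · rintro (((h | h) | h) | ⟨-, V, hV, hxV, hyV⟩)
      · exact mem_sol_of_pairStab hD hab (hTM hxT) h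
      · exact (hwsol y h).1
      · have hw : x * y ∈ W := by
          show (x * (x * y)) * (x * (x * y)) = 1
          rw [← mul_assoc x x y, hxx, one_mul, h]
        have := (hwsol _ hw).2
        rwa [← mul_assoc, hxx, one_mul] at this
      · refine isSolvable_le (isSolvable_normalizer hV (hN V hV)) ?_
        rw [Subgroup.closure_le]
        rintro w (rfl | rfl)
        exacts [V.le_normalizer hxV, hyV]
  have hdA : Disjoint (((M : Set G) ∪ W) ∪ J) A := by
    refine Set.disjoint_left.2 fun y hy hyA => ?_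
    rcases hy with (h | h) | h
    · rcases h with ⟨y1, y2⟩ | ⟨y1, y2⟩
      · exact hab (hD.two.eq_of_fix hyA.1 y2 y1)
      · exact ne_three_of_sq (swap_sq hD.two hab y1 y2) hyA.1
    · exact hno3 y h hyA.1
    · exact ne_three_of_sq h hyA.1
  -- the swaps
  set Sw : Set G := (M : Set G) \ (T : Set G) with hSw
  have hSwc : Sw.ncard = Nat.card T := by
    rw [hSw, Set.ncard_sdiff (fun _ h => hTM h) (Set.toFinite _), ← Nat.card_coe_set_eq,
      ← Nat.card_coe_set_eq]
    change Nat.card M - Nat.card T = _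
    omega
  have hKc : K.ncard = 2 + Nat.card T := by
    have hK1 : K = {1, x} ∪ Sw := by
      ext y
      constructor
      · rintro ⟨hyM, (hyy : y * y = 1)⟩
        by_cases hyT : y ∈ T
        · left
          by_cases hy1 : y = 1
          · exact Or.inl hy1
          · exact Or.inr (invol_unique hD hab hxT hyT hxx hyy hx1 hy1)
        · exact Or.inr ⟨hyM, hyT⟩
      · rintro ((rfl | rfl) | ⟨hyM, hyT⟩)
        · exact ⟨M.one_mem, mul_one 1⟩
        · exact ⟨hTM hxT, hxx⟩
        · exact ⟨hyM, swap_sq hD.two hab (hnswap y hyM hyT).1 (hnswap y hyM hyT).2⟩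
    rw [hK1, Set.ncard_union_eq, Set.ncard_pair hx1.symm, hSwc]
    refine Set.disjoint_left.2 ?_
    rintro y (rfl | rfl) h
    · exact h.2 T.one_mem
    · exact h.2 hxT
  have hI := ncard_invol hD hq8 hxx hx1
  have hJc : J.ncard = {w : G | w * w = 1 ∧ w ≠ 1}.ncard + 1 := by
    rw [← Set.ncard_insert_of_notMem (show (1 : G) ∉ {w : G | w * w = 1 ∧ w ≠ 1} from fun h => h.2 rfl)]
    congr 1
    ext w
    constructor
    · intro (h : w * w = 1)
      by_cases h1 : w = 1
      · exact Or.inl h1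
      · exact Or.inr ⟨h, h1⟩
    · rintro (rfl | h)
      · exact mul_one 1
      · exact h.1
  have hU : (((M : Set G) ∪ W) ∪ J).ncard + 2 * K.ncard = Nat.card M + 2 * J.ncard := by
    have e1 := Set.ncard_union_add_ncard_inter (M : Set G) W
    have e2 := Set.ncard_union_add_ncard_inter ((M : Set G) ∪ W) J
    have hi : ((M : Set G) ∪ W) ∩ J = K := by
      ext y
      refine ⟨fun h => ⟨?_, h.2⟩, fun h => ⟨Or.inl h.1, h.2⟩⟩
      rcases h.1 with h1 | h1
      · exact h1
      · exact hWJ ⟨h1, h.2⟩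
    rw [hMW, hWimg, Set.ncard_image_of_injective _ (mul_right_injective x), ← hWimg,
      ← Nat.card_coe_set_eq (M : Set G)] at e1
    rw [hi] at e2
    change _ = Nat.card M + _ at e1
    omega
  -- the four-groups through `x`
  set 𝒱 : Set (Subgroup G) := {V | IsKleinFour V ∧ x ∈ V} with h𝒱
  have hVM : ∀ V ∈ 𝒱, ∀ v ∈ V, v ∈ M := by
    rintro V ⟨hV, hxV⟩ v hv
    exact commute_fix hD.two hx1 hab ha hb (KleinPSL.kleinFour_mem V hxV hv).1
  have h𝒱c : 2 * 𝒱.ncard = Nat.card T := by
    rw [← hSwc, ← Nat.card_coe_set_eq, ← Nat.card_coe_set_eq]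
    haveI := Fintype.ofFinite 𝒱
    have hbij : Function.Bijective
        (fun u : Σ V : 𝒱, ↥(((V : Subgroup G) : Set G) \ {1, x}) => (⟨(u.2 : G), hVM _ u.1.2 _ u.2.2.1,
          fun hT' => by
            have h1 : (u.2 : G) ≠ 1 := fun e => u.2.2.2 (Or.inl e)
            exact u.2.2.2 (Or.inr (invol_unique hD hab hxT hT' hxx
              (sq_eq_one_of_mem u.1.2.1 u.2.2.1) hx1 h1))⟩ : Sw)) := by
      refine ⟨?_, ?_⟩
      · rintro ⟨⟨V, hV⟩, ⟨v, hv⟩⟩ ⟨⟨V', hV'⟩, ⟨v', hv'⟩⟩ e
        have e' : v = v' := congrArg Subtype.val e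
        subst e'
        have := eq_of_generators hV.1 hV'.1 hV.2 hv.1 hV'.2 hv'.1 hx1 (fun e => hv.2 (Or.inl e))
          (fun e => hv.2 (Or.inr e.symm))
        subst this
        rfl
      · rintro ⟨s, hsM, hsT⟩
        have hss : s * s = 1 := swap_sq hD.two hab (hnswap s hsM hsT).1 (hnswap s hsM hsT).2
        have hs1 : s ≠ 1 := fun e => hsT (e ▸ T.one_mem)
        have hsx : x ≠ s := fun e => hsT (e ▸ hxT)
        refine ⟨⟨⟨KleinPSL.kSub x s hxx hss (hMcomm s hsM),
          KleinPSL.kSub_isKleinFour hx1 hs1 hsx, Or.inr (Or.inl rfl)⟩,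
          ⟨s, Or.inr (Or.inr (Or.inl rfl)), ?_⟩⟩, rfl⟩
        rintro (e | e)
        · exact hs1 e
        · exact hsx e.symm
    rw [← Nat.card_eq_of_bijective _ hbij, Nat.card_sigma, Finset.sum_congr rfl (fun V _ => ?_),
      Finset.sum_const, Finset.card_univ, smul_eq_mul, ← Nat.card_eq_fintype_card, mul_comm]
    rw [Nat.card_coe_set_eq, Set.ncard_sdiff (Set.insert_subset (V : Subgroup G).one_mem
      (Set.singleton_subset_iff.2 V.2.2)) (Set.toFinite _), Set.ncard_pair hx1.symm,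
      ← Nat.card_coe_set_eq]
    exact congrArg (· - 2) V.2.1.card_four
  have hAc : A.ncard = 8 * 𝒱.ncard := by
    rw [← Nat.card_coe_set_eq, ← Nat.card_coe_set_eq]
    haveI := Fintype.ofFinite 𝒱
    have hbij : Function.Bijective
        (fun u : Σ V : 𝒱, ↥((Subgroup.normalizer ((V : Subgroup G) : Set G) : Set G) \
          ((V : Subgroup G) : Set G)) => (⟨(u.2 : G),
            (norm_cases hD hN u.1.2.1 u.2.2.1).resolve_left u.2.2.2, u.1, u.1.2.1, u.1.2.2, u.2.2.1⟩ : A)) := by
      refine ⟨?_, ?_⟩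
      · rintro ⟨⟨V, hV⟩, ⟨y, hy⟩⟩ ⟨⟨V', hV'⟩, ⟨y', hy'⟩⟩ e
        have e' : y = y' := congrArg Subtype.val e
        subst e'
        have hy3 := (norm_cases hD hN hV.1 hy.1).resolve_left hy.2
        have hyx : x ≠ y * x * y⁻¹ := fun e => by
          obtain ⟨c, hc⟩ := hD.two.exists_fixed (g := y) fun e' => by
            rw [e', orderOf_one] at hy3; omega
          have hxc := hD.two.cent_p hy3 hc (h := x) (by
            show x * y = y * x
            nth_rewrite 1 [e]; group)
          have h3 := hxc.2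
          rw [pow_succ, pow_two, hxx, one_mul] at h3
          exact hx1 h3
        have := eq_of_generators hV.1 hV'.1 hV.2 ((Subgroup.mem_normalizer_iff.1 hy.1 x).1 hV.2) hV'.2
          ((Subgroup.mem_normalizer_iff.1 hy'.1 x).1 hV'.2) hx1
          (fun e => hx1 (conj_eq_one_iff.1 e)) hyx
        subst this
        rfl
      · rintro ⟨y, hy3, V, hV, hxV, hyV⟩
        exact ⟨⟨⟨V, hV, hxV⟩, ⟨y, hyV, fun h => ne_three_of_sq (sq_eq_one_of_mem hV h) hy3⟩⟩, rfl⟩
    rw [← Nat.card_eq_of_bijective _ hbij, Nat.card_sigma, Finset.sum_congr rfl (fun V _ => ?_),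
      Finset.sum_const, Finset.card_univ, smul_eq_mul, ← Nat.card_eq_fintype_card, mul_comm]
    rw [Nat.card_coe_set_eq, Set.ncard_sdiff (Subgroup.le_normalizer) (Set.toFinite _),
      ← Nat.card_coe_set_eq, ← Nat.card_coe_set_eq]
    change Nat.card (Subgroup.normalizer ((V : Subgroup G) : Set G)) - Nat.card (V : Subgroup G) = 8
    rw [hN _ V.2.1, V.2.1.card_four]
  rw [hsol, Set.ncard_union_eq hdA]
  have hqq : q * (q + 1) = q * (q - 1) + 2 * q := by
    obtain ⟨k, rfl⟩ : ∃ k, q = k + 1 := ⟨q - 1, by omega⟩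
    rw [Nat.add_sub_cancel]
    ring
  omega

include hq8 in
theorem two_mul_natCard_stab {z : X} (hz : IsRat 3 G z) :
    2 * Nat.card (stabilizer G z) = q * (q - 1) ∧ Odd (Nat.card (stabilizer G z)) := by
  have h := natCard_stab hD hz
  refine ⟨h, ?_⟩
  obtain ⟨k, rfl⟩ : ∃ k, q = 8 * k + 3 := ⟨q / 8, by omega⟩
  rw [Nat.odd_iff]
  rw [show 8 * k + 3 - 1 = 8 * k + 2 by omega] at h
  ring_nf at h
  omega

include hq8 in
theorem conjs_three {x : G} (hx : orderOf x = 3) :
    {y : G | orderOf y = 3} = {g | ∃ k, ∃ s ∈ ({x} : Set G), g = k * s * k⁻¹} ∪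
      {g | ∃ k, ∃ s ∈ ({x⁻¹} : Set G), g = k * s * k⁻¹} := by
  classical
  have hx1 : x ≠ 1 := fun e => by rw [e, orderOf_one] at hx; omega
  obtain ⟨z, hz⟩ := hD.two.exists_fixed hx1
  have hzr : IsRat 3 G z := ⟨x, hx, hz⟩
  set Q := hD.two.pSub z
  have hxQ : x ∈ Q := ⟨hz, hx ▸ pow_orderOf_eq_one x⟩
  have hcnt : ∀ s ∈ Q, s ≠ 1 →
      2 * {g | ∃ k, ∃ s' ∈ ({s} : Set G), g = k * s' * k⁻¹}.ncard = (q + 1) * (q - 1) := by
    intro s hs hs1
    have h := ncard_conjs ({s} : Set G) Q (by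
      rintro k _ rfl
      rw [Set.mem_singleton_iff]
      constructor
      · intro h
        exact hD.two.cent_p (hD.two.orderOf_of_mem hs hs1) hs.1 (show k * _ = _ * k by
          nth_rewrite 2 [← h]; group)
      · intro hk
        rw [(hD.two.pSub_comm hk hs).eq, mul_inv_cancel_right])
    rw [Set.ncard_singleton, mul_one, hD.natCard_pSub z hzr] at h
    refine Nat.eq_of_mul_eq_mul_left (show 0 < q by have := hD.two_le; omega) ?_
    rw [mul_comm (q + 1), ← hD.card, ← h]
    ring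
  have hsub : ∀ s : G, orderOf s = 3 →
      {g | ∃ k, ∃ s' ∈ ({s} : Set G), g = k * s' * k⁻¹} ⊆ {y : G | orderOf y = 3} := by
    rintro s hs _ ⟨k, s', rfl, rfl⟩
    show orderOf (k * s' * k⁻¹) = 3
    rw [← MulAut.conj_apply, MulEquiv.orderOf_eq, hs]
  have hdis : Disjoint {g | ∃ k, ∃ s ∈ ({x} : Set G), g = k * s * k⁻¹}
      {g | ∃ k, ∃ s ∈ ({x⁻¹} : Set G), g = k * s * k⁻¹} := by
    refine Set.disjoint_left.2 ?_
    rintro _ ⟨k, s, hs, rfl⟩ ⟨k', s', hs', e⟩
    rw [Set.mem_singleton_iff] at hs hs'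
    subst s s'
    set h := k'⁻¹ * k
    have hh : h * x * h⁻¹ = x⁻¹ := by
      calc h * x * h⁻¹ = k'⁻¹ * (k * x * k⁻¹) * k' := by simp only [h]; group
        _ = x⁻¹ := by rw [e]; group
    have hhz : h • z = z := hD.two.smul_eq_of_conj_mem hxQ hx1 (by rw [hh]; exact Q.inv_mem hxQ)
    have hh2 : Commute (h * h) x := by
      show h * h * x = x * (h * h)
      calc h * h * x = h * (h * x * h⁻¹) * h⁻¹ * (h * h) := by group
        _ = h * x⁻¹ * h⁻¹ * (h * h) := by rw [hh]
        _ = (h * x * h⁻¹)⁻¹ * (h * h) := by group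
        _ = x * (h * h) := by rw [hh, inv_inv]
    have h6 : (h * h) ^ 3 = 1 := (hD.two.cent_p hx hz hh2).2
    have h3 : h ^ 3 = 1 := by
      obtain ⟨m, hm⟩ := (two_mul_natCard_stab hD hq8 hzr).2
      have ho : orderOf h ∣ Nat.card (stabilizer G z) := by
        have := orderOf_dvd_natCard (⟨h, hhz⟩ : stabilizer G z)
        rwa [← Subgroup.orderOf_coe] at this
      have h6' : orderOf h ∣ 2 * 3 := orderOf_dvd_of_pow_eq_one (by rw [pow_mul, pow_two, h6])
      refine orderOf_dvd_iff_pow_eq_one.1 (Nat.Coprime.dvd_of_dvd_mul_left ?_ h6')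
      exact Nat.Coprime.coprime_dvd_left ho (Nat.coprime_two_right.2 ⟨m, hm⟩)
    have hc : Commute h x := hD.two.pSub_comm ⟨hhz, h3⟩ hxQ
    rw [hc.eq, mul_inv_cancel_right] at hh
    have hxx : x * x = 1 := mul_eq_one_iff_eq_inv.2 hh
    exact ne_three_of_sq hxx hx
  refine (Set.eq_of_subset_of_ncard_le (Set.union_subset (hsub x hx) (hsub x⁻¹ (by rw [orderOf_inv, hx])))
    ?_ (Set.toFinite _)).symm
  rw [Set.ncard_union_eq hdis, ncard_orderOf_p hD]
  have h1 := hcnt x hxQ hx1
  have h2 := hcnt x⁻¹ (Q.inv_mem hxQ) (inv_ne_one.2 hx1)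
  omega

omit hD in
theorem ncard_kleinNorm_conj (k y : G) : (kleinNorm (k * y * k⁻¹)).ncard = (kleinNorm y).ncard := by
  have hmap : ∀ (g w : G) (V : Subgroup G), V ∈ kleinNorm w →
      V.map (MulAut.conj g).toMonoidHom ∈ kleinNorm (g * w * g⁻¹) := by
    rintro g w V ⟨hV, hw⟩
    haveI := hV
    refine ⟨⟨?_, ?_⟩, ?_⟩
    · rw [← Nat.card_congr (V.equivMapOfInjective _ (MulAut.conj g).injective).toEquiv, hV.card_four]
    · rw [← Monoid.exponent_eq_of_mulEquiv (V.equivMapOfInjective _ (MulAut.conj g).injective),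
        hV.exponent_two]
    · have h := Subgroup.le_normalizer_map (MulAut.conj g).toMonoidHom (Subgroup.mem_map_of_mem _ hw)
      exact h
  have himg : kleinNorm (k * y * k⁻¹) =
      (fun V : Subgroup G => V.map (MulAut.conj k).toMonoidHom) '' kleinNorm y := by
    ext V
    constructor
    · intro hV
      refine ⟨V.map (MulAut.conj k⁻¹).toMonoidHom, ?_, ?_⟩
      · have h := hmap k⁻¹ _ V hV
        rwa [show k⁻¹ * (k * y * k⁻¹) * k⁻¹⁻¹ = y by group] at h
      · show (V.map (MulAut.conj k⁻¹).toMonoidHom).map (MulAut.conj k).toMonoidHom = V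
        rw [Subgroup.map_map]
        convert V.map_id
        ext g
        simp [mul_assoc]
    · rintro ⟨U, hU, rfl⟩
      exact hmap k y U hU
  rw [himg, Set.ncard_image_of_injective _ (Subgroup.map_injective (MulAut.conj k).injective)]

include hq8 hN hK in
theorem three_mul_ncard_kleinNorm {x : G} (hx : orderOf x = 3) : 3 * (kleinNorm x).ncard = q := by
  classical
  have hconst : ∀ y : G, orderOf y = 3 → (kleinNorm y).ncard = (kleinNorm x).ncard := by
    intro y hy
    have hy' : y ∈ {y : G | orderOf y = 3} := hy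
    rw [conjs_three hD hq8 hx] at hy'
    rcases hy' with ⟨k, _, rfl, rfl⟩ | ⟨k, _, rfl, rfl⟩
    · exact ncard_kleinNorm_conj k _
    · rw [ncard_kleinNorm_conj k x⁻¹]
      congr 1
      ext V
      exact and_congr_right fun _ => inv_mem_iff
  haveI := Fintype.ofFinite {V : Subgroup G // IsKleinFour V}
  haveI := Fintype.ofFinite {y : G // orderOf y = 3}
  have e : (Σ V : {V : Subgroup G // IsKleinFour V},
        ↥((Subgroup.normalizer ((V : Subgroup G) : Set G) : Set G) \ ((V : Subgroup G) : Set G))) ≃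
      (Σ y : {y : G // orderOf y = 3}, ↥(kleinNorm (y : G))) :=
    { toFun := fun u => ⟨⟨(u.2 : G), (norm_cases hD hN u.1.2 u.2.2.1).resolve_left u.2.2.2⟩,
        ⟨u.1, u.1.2, u.2.2.1⟩⟩
      invFun := fun u => ⟨⟨u.2, u.2.2.1⟩, ⟨u.1, u.2.2.2,
        fun h => ne_three_of_sq (sq_eq_one_of_mem u.2.2.1 h) u.1.2⟩⟩
      left_inv := fun u => rfl
      right_inv := fun u => rfl }
  have h := Nat.card_congr e
  have h1 : ∀ V : {V : Subgroup G // IsKleinFour V}, Nat.card
      ↥((Subgroup.normalizer ((V : Subgroup G) : Set G) : Set G) \ ((V : Subgroup G) : Set G)) = 8 := by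
    intro V
    rw [Nat.card_coe_set_eq, Set.ncard_sdiff (Subgroup.le_normalizer) (Set.toFinite _),
      ← Nat.card_coe_set_eq, ← Nat.card_coe_set_eq]
    change Nat.card (Subgroup.normalizer ((V : Subgroup G) : Set G)) - Nat.card (V : Subgroup G) = 8
    rw [hN _ V.2, V.2.card_four]
  have h2 : ∀ y : {y : G // orderOf y = 3}, Nat.card ↥(kleinNorm (y : G)) = (kleinNorm x).ncard :=
    fun y => (Nat.card_coe_set_eq _).trans (hconst y.1 y.2)
  rw [Nat.card_sigma, Nat.card_sigma, Finset.sum_congr rfl (fun V _ => h1 V),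
    Finset.sum_congr rfl (fun y _ => h2 y),
    Finset.sum_const, Finset.sum_const, Finset.card_univ, Finset.card_univ, smul_eq_mul, smul_eq_mul,
    ← Nat.card_eq_fintype_card, ← Nat.card_eq_fintype_card,
    show Nat.card {y : G // orderOf y = 3} = (q + 1) * (q - 1) from
      (Nat.card_coe_set_eq {g : G | orderOf g = 3}).trans (ncard_orderOf_p hD)] at h
  refine Nat.eq_of_mul_eq_mul_left (show 0 < (q + 1) * (q - 1) from Nat.mul_pos (by omega) (by omega)) ?_
  have hc := hD.card
  rw [← hK] at hc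
  calc (q + 1) * (q - 1) * (3 * (kleinNorm x).ncard)
      = 3 * ((q + 1) * (q - 1) * (kleinNorm x).ncard) := by ring
    _ = 2 * (12 * Nat.card {V : Subgroup G // IsKleinFour V}) := by rw [← h]; ring
    _ = (q + 1) * (q - 1) * q := by rw [hc]; ring

include hq8 hN hK in
/-- The solubilizer of an element of order three. -/
theorem ncard_sol_three {x : G} (hx : orderOf x = 3) : 2 * (sol x).ncard = q * (q + 5) := by
  classical
  have hx1 : x ≠ 1 := fun e => by rw [e, orderOf_one] at hx; omega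
  obtain ⟨z, hz⟩ := hD.two.exists_fixed hx1
  have hzr : IsRat 3 G z := ⟨x, hx, hz⟩
  obtain ⟨hs, hodd⟩ := two_mul_natCard_stab hD hq8 hzr
  set A : Set G := {y | y • z ≠ z ∧ ∃ V ∈ kleinNorm x, y ∈ Subgroup.normalizer (V : Set G)}
  have hsol : sol x = (stabilizer G z : Set G) ∪ A := by
    ext y
    constructor
    · intro hy
      rcases sol_cases hD hx1 hy with ⟨u, hxu, hyu⟩ | ⟨u, v, huv, hxu, -⟩ | ⟨-, V, hV, hxV, hyV⟩
      · exact Or.inl (hD.two.eq_of_fix hx hz hxu ▸ hyu)
      · rcases hxu with ⟨x1, x2⟩ | ⟨x1, x2⟩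
        · exact absurd (hD.two.eq_of_fix hx x2 x1) huv
        · exact absurd hx (ne_three_of_sq (swap_sq hD.two huv x1 x2))
      · by_cases hyz : y • z = z
        · exact Or.inl hyz
        · exact Or.inr ⟨hyz, V, ⟨hV, hxV⟩, hyV⟩
    · rintro (h | ⟨-, V, ⟨hV, hxV⟩, hyV⟩)
      · exact mem_sol_of_fix hD hz h
      · refine isSolvable_le (isSolvable_normalizer hV (hN V hV)) ?_
        rw [Subgroup.closure_le]
        rintro w (rfl | rfl)
        exacts [hxV, hyV]
  have hdis : Disjoint (stabilizer G z : Set G) A := Set.disjoint_left.2 fun y hy hyA => hyA.1 hy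
  have hinf : ∀ V ∈ kleinNorm x, Nat.card
      (Subgroup.normalizer (V : Set G) ⊓ stabilizer G z : Subgroup G) = 3 := by
    rintro V ⟨hV, hxV⟩
    set H := Subgroup.normalizer (V : Set G) ⊓ stabilizer G z
    have h12 : Nat.card H ∣ 12 := hN V hV ▸ Subgroup.card_dvd_of_le inf_le_left
    have hs' : Nat.card H ∣ Nat.card (stabilizer G z) := Subgroup.card_dvd_of_le inf_le_right
    have h3 : 3 ∣ Nat.card H := by
      have := orderOf_dvd_natCard (⟨x, hxV, hz⟩ : H)
      rwa [← Subgroup.orderOf_coe, hx] at this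
    have ho : ¬ 2 ∣ Nat.card H := fun h => by
      have := h.trans hs'
      rw [Nat.odd_iff] at hodd
      omega
    have hle := Nat.le_of_dvd (by norm_num) h12
    have hpos : 0 < Nat.card H := Nat.card_pos
    generalize Nat.card H = n at *
    interval_cases n <;> omega
  have hAc : A.ncard = 9 * (kleinNorm x).ncard := by
    rw [← Nat.card_coe_set_eq, ← Nat.card_coe_set_eq]
    haveI := Fintype.ofFinite (kleinNorm x)
    have hbij : Function.Bijective (fun u : Σ V : kleinNorm x,
        ↥((Subgroup.normalizer ((V : Subgroup G) : Set G) : Set G) \ (stabilizer G z : Set G)) =>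
        (⟨(u.2 : G), u.2.2.2, u.1, u.1.2, u.2.2.1⟩ : A)) := by
      refine ⟨?_, ?_⟩
      · rintro ⟨⟨V, hV⟩, ⟨y, hy⟩⟩ ⟨⟨V', hV'⟩, ⟨y', hy'⟩⟩ e
        have e' : y = y' := congrArg Subtype.val e
        subst e'
        suffices V = V' by subst this; rfl
        set H := Subgroup.normalizer (V : Set G) ⊓ Subgroup.normalizer (V' : Set G)
        have h12 : Nat.card H ∣ 12 := hN V hV.1 ▸ Subgroup.card_dvd_of_le inf_le_left
        by_cases h2 : 2 ∣ Nat.card H
        · haveI : Fact (Nat.Prime 2) := ⟨Nat.prime_two⟩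
          obtain ⟨⟨v, hv, hv'⟩, hvo⟩ := exists_prime_orderOf_dvd_card' 2 h2
          rw [← Subgroup.orderOf_coe] at hvo
          have hvv := KleinPSL.mul_self_of_order_two hvo
          have hv1 := KleinPSL.ne_one_of_order_two hvo
          have hvV := mem_of_sq_eq_one hV.1 (hN V hV.1) hv hvv
          have hvV' := mem_of_sq_eq_one hV'.1 (hN V' hV'.1) hv' hvv
          refine eq_of_generators hV.1 hV'.1 hvV ((Subgroup.mem_normalizer_iff.1 hV.2 v).1 hvV) hvV'
            ((Subgroup.mem_normalizer_iff.1 hV'.2 v).1 hvV') hv1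
            (fun e => hv1 (conj_eq_one_iff.1 e)) fun e => ?_
          have h3 := (hD.two.cent_p hx hz (h := v) (show v * x = x * v by
            nth_rewrite 1 [e]; group)).2
          rw [pow_succ, pow_two, hvv, one_mul] at h3
          exact hv1 h3
        · exfalso
          refine hy.2 ?_
          have h3 : Nat.card H = 3 := by
            have h3 : 3 ∣ Nat.card H := by
              have := orderOf_dvd_natCard (⟨x, hV.2, hV'.2⟩ : H)
              rwa [← Subgroup.orderOf_coe, hx] at this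
            have hle := Nat.le_of_dvd (by norm_num) h12
            have hpos : 0 < Nat.card H := Nat.card_pos
            generalize Nat.card H = n at *
            interval_cases n <;> omega
          have hle : Subgroup.zpowers x = H := Subgroup.eq_of_le_of_card_ge
            (Subgroup.zpowers_le.2 ⟨hV.2, hV'.2⟩) (by rw [Nat.card_zpowers, hx, h3])
          have : y ∈ Subgroup.zpowers x := hle ▸ (⟨hy.1, hy'.1⟩ : y ∈ H)
          exact Subgroup.zpowers_le.2 (show x ∈ stabilizer G z from hz) this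
      · rintro ⟨y, hyz, V, hV, hyV⟩
        exact ⟨⟨⟨V, hV⟩, ⟨y, hyV, hyz⟩⟩, rfl⟩
    rw [← Nat.card_eq_of_bijective _ hbij, Nat.card_sigma, Finset.sum_congr rfl (fun V _ => ?_),
      Finset.sum_const, Finset.card_univ, smul_eq_mul, ← Nat.card_eq_fintype_card, mul_comm]
    have he := Set.ncard_inter_add_ncard_sdiff_eq_ncard
      (Subgroup.normalizer ((V : Subgroup G) : Set G) : Set G) (stabilizer G z : Set G) (Set.toFinite _)
    rw [← Nat.card_coe_set_eq, ← Nat.card_coe_set_eq, ← Nat.card_coe_set_eq] at he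
    change Nat.card (Subgroup.normalizer ((V : Subgroup G) : Set G) ⊓ stabilizer G z : Subgroup G) + _ =
      Nat.card (Subgroup.normalizer ((V : Subgroup G) : Set G)) at he
    rw [hinf _ V.2, hN _ V.2.1] at he
    omega
  have h3 := three_mul_ncard_kleinNorm hD hq8 hN hK hx
  rw [hsol, Set.ncard_union_eq hdis, hAc, ← Nat.card_coe_set_eq]
  change 2 * (Nat.card (stabilizer G z) + _) = _
  have hqq : q * (q + 5) = q * (q - 1) + 6 * q := by
    obtain ⟨k, rfl⟩ : ∃ k, q = k + 1 := ⟨q - 1, by omega⟩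
    rw [Nat.add_sub_cancel]
    ring
  omega

end Cfsg.Agent.Forms.SolubilizerPSL2
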