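import Mathlib
import Cfsg.Agent.Lib.Forms.SolubilizerPSL2.Three
import Cfsg.Agent.Lib.Forms.DicksonCor
import Cfsg.Agent.Lib.Forms.DicksonSolvable
import Cfsg.Agent.Lib.Classical.SylowSL2

/-!
# The data of `PSL₂(q)`
-/

set_option autoImplicit false
set_option linter.unusedSectionVars false

namespace Cfsg.Agent.Forms.SolubilizerPSL2

open MulAction
open scoped MatrixGroups

variable {F : Type*} [Field F] [Fintype F]

local notation "PG" => Matrix.ProjectiveSpecialLinearGroup (Fin 2) F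

theorem data (p : ℕ) [hp : Fact p.Prime] [CharP F p] {n d : ℕ} (hn : Fintype.card F = p ^ n) (hn0 : n ≠ 0)
    (hd : Nat.gcd 2 (Fintype.card F - 1) = d) :
    Data p PG (OnePoint (AlgebraicClosure F)) (p ^ n) d := by
  have hT := DicksonAction.twoPt (F := F) p
  have hG := DicksonCor.gcd_mul_natCard (F := F)
  rw [hd, hn] at hG
  have hq2 : 2 ≤ p ^ n := hp.out.two_le.trans (Nat.le_self_pow hn0 p)
  have hcop : ∀ m, m ∣ p ^ n - 1 ∨ m ∣ p ^ n + 1 → Nat.Coprime p m := fun m hm => by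
    rw [hp.out.coprime_iff_not_dvd]
    intro h
    have hq := dvd_pow_self p hn0
    have h1 : p ∣ 1 := by
      rcases hm with hm | hm
      · have := Nat.dvd_sub hq (h.trans hm)
        rwa [show p ^ n - (p ^ n - 1) = 1 by omega] at this
      · exact (Nat.dvd_add_right hq).1 (h.trans hm)
    exact hp.out.not_dvd_one h1
  have hdd : d ∣ p ^ n - 1 := hd ▸ hn ▸ Nat.gcd_dvd_right _ _
  have hpd : Nat.Coprime (p ^ n) d := (hcop d (Or.inl hdd)).pow_left n
  have hdvd : p ^ n ∣ Nat.card PG := hpd.dvd_of_dvd_mul_left (Dvd.intro _ hG.symm)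
  have hcard : ∀ P : Sylow p PG, Nat.card P = p ^ n := by
    intro P
    refine Nat.dvd_antisymm ?_ ?_
    · obtain ⟨k, hk⟩ := IsPGroup.iff_card.1 P.2
      have h1 : Nat.card P ∣ p ^ n * ((p ^ n - 1) * (p ^ n + 1)) :=
        hG ▸ Dvd.dvd.mul_left (P : Subgroup PG).card_subgroup_dvd_card d
      refine Nat.Coprime.dvd_of_dvd_mul_right ?_ h1
      rw [hk]
      exact (Nat.Coprime.mul_right (hcop _ (Or.inl dvd_rfl)) (hcop _ (Or.inr dvd_rfl))).pow_left k
    · rw [← (P : Subgroup PG).card_mul_index] at hdvd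
      exact ((hp.out.coprime_iff_not_dvd.2 P.not_dvd_index).pow_left n).dvd_of_dvd_mul_right hdvd
  have hne : ∀ z : OnePoint (AlgebraicClosure F), IsRat p PG z → hT.pSub z ≠ ⊥ := by
    rintro z ⟨g, hg, hgz⟩ e
    have h1 : g ∈ hT.pSub z := ⟨hgz, hg ▸ pow_orderOf_eq_one g⟩
    rw [e, Subgroup.mem_bot] at h1
    rw [h1, orderOf_one] at hg
    exact hp.out.one_lt.ne hg
  refine ⟨hT, hG, hq2, fun z hz => ?_, fun z hz => ?_, ?_, fun H z h =>
    DicksonSolvable.isSolvable_of_fix p H z h⟩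
  · rw [DicksonCor.index_stabilizer_of_pSub p (hne z hz), hn]
  · obtain ⟨P, hP⟩ := hT.exists_sylow_eq (hne z hz)
    rw [← hP, hcard P]
  · obtain ⟨g, hg⟩ := exists_prime_orderOf_dvd_card' (G := PG) p
      ((dvd_pow_self p hn0).trans hdvd)
    obtain ⟨z, hz⟩ := hT.exists_fixed (g := g) fun e => by
      rw [e, orderOf_one] at hg; exact hp.out.one_lt.ne hg
    exact ⟨z, g, hg, hz⟩

/-- For `q ≡ 3 (mod 8)` the four-groups are the Sylow `2`-subgroups. -/
theorem klein_facts (hq8 : Fintype.card F % 8 = 3) :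
    (∀ V : Subgroup PG, IsKleinFour V → Nat.card (Subgroup.normalizer (V : Set PG)) = 12) ∧
      12 * Nat.card {V : Subgroup PG // IsKleinFour V} = Nat.card PG := by
  have hK : 12 * Nat.card {V : Subgroup PG // IsKleinFour V} = Nat.card PG :=
    KleinPSL.natCard_kleinFour (Classical.SylowSL2.two_ne_zero_of_odd (Nat.odd_iff.2 (by omega)))
  refine ⟨fun V hV => ?_, hK⟩
  haveI : Fact (Nat.Prime 2) := ⟨Nat.prime_two⟩
  have h8 : ¬ 8 ∣ Nat.card PG := by
    intro h8
    have hG := DicksonCor.gcd_mul_natCard (F := F)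
    have hg2 : Nat.gcd 2 (Fintype.card F - 1) = 2 := Nat.gcd_eq_left (by omega)
    rw [hg2] at hG
    obtain ⟨k, hk⟩ : ∃ k, Fintype.card F = 8 * k + 3 := ⟨Fintype.card F / 8, by omega⟩
    obtain ⟨m, hm⟩ := h8
    rw [hk, hm, show 8 * k + 3 - 1 = 8 * k + 2 by omega] at hG
    ring_nf at hG
    omega
  have hsyl : ∀ W : Subgroup PG, IsKleinFour W → ∃ P : Sylow 2 PG, (P : Subgroup PG) = W := by
    intro W hW
    obtain ⟨P, hP⟩ := (IsPGroup.of_card (p := 2) (n := 2) (G := W) (by rw [hW.card_four]; norm_num)).exists_le_sylow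
    refine ⟨P, (Subgroup.eq_of_le_of_card_ge hP ?_).symm⟩
    obtain ⟨k, hk⟩ := IsPGroup.iff_card.1 P.2
    rw [hW.card_four]
    have hk2 : k ≤ 2 := by
      by_contra hk3
      exact h8 ((pow_dvd_pow 2 (show 3 ≤ k by omega)).trans
        (hk ▸ (P : Subgroup PG).card_subgroup_dvd_card))
    change Nat.card P ≤ 4
    rw [hk]
    exact (Nat.pow_le_pow_right (by norm_num) hk2).trans (by norm_num)
  obtain ⟨P₀, hP₀⟩ := hsyl V hV
  have hKl : ∀ P : Sylow 2 PG, IsKleinFour (P : Subgroup PG) := by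
    intro P
    have e : (P₀ : Subgroup PG) ≃* (P : Subgroup PG) := P₀.equiv P
    haveI : IsKleinFour (P₀ : Subgroup PG) := hP₀ ▸ hV
    exact ⟨by rw [← Nat.card_congr e.toEquiv, IsKleinFour.card_four],
      by rw [← Monoid.exponent_eq_of_mulEquiv e, IsKleinFour.exponent_two]⟩
  have hbij : Function.Bijective
      fun P : Sylow 2 PG => (⟨P, hKl P⟩ : {V : Subgroup PG // IsKleinFour V}) := by
    refine ⟨fun P Q h => Sylow.ext (congrArg Subtype.val h), fun W => ?_⟩
    obtain ⟨P, hP⟩ := hsyl W.1 W.2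
    exact ⟨P, Subtype.ext hP⟩
  have hc : Nat.card {V : Subgroup PG // IsKleinFour V} = (Subgroup.normalizer (V : Set PG)).index := by
    rw [← Nat.card_eq_of_bijective _ hbij, P₀.card_eq_index_normalizer]
    rw [← hP₀]
    rfl
  rw [hc, mul_comm, ← (Subgroup.normalizer (V : Set PG)).index_mul_card] at hK
  exact (Nat.eq_of_mul_eq_mul_left (Nat.pos_of_ne_zero Subgroup.index_ne_zero_of_finite) hK).symm

end Cfsg.Agent.Forms.SolubilizerPSL2
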